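import Cfsg.Agent.UFourInUSix.Classes

/-!
# The three classes, over any fields of the given orders
-/

set_option autoImplicit false
set_option linter.style.haveILetI false

namespace Cfsg.UFourInUSix

open Cfsg.Lib.USixTwoCover (K)

/-- A field isomorphism transports the special unitary group. -/
theorem su_congr {F L : Type} [Field F] [Field L] (e : F ≃+* L) (n q : ℕ) :
    Nonempty (Cfsg.SU n F q ≃* Cfsg.SU n L q) := by
  have hmap : ∀ {F L : Type} [Field F] [Field L] (e : F ≃+* L) (a : Matrix.SpecialLinearGroup (Fin n) F),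
      a ∈ Cfsg.SU n F q → Matrix.SpecialLinearGroup.map e.toRingHom a ∈ Cfsg.SU n L q := by
    intro F L _ _ e a ha u v
    obtain ⟨u', rfl⟩ : ∃ u' : Fin n → F, (fun i => e (u' i)) = u := ⟨fun i => e.symm (u i), by simp⟩
    obtain ⟨v', rfl⟩ : ∃ v' : Fin n → F, (fun i => e (v' i)) = v := ⟨fun i => e.symm (v i), by simp⟩
    have h := congrArg e (ha u' v')
    have hform : ∀ x y : Fin n → F, e (Cfsg.hermForm n F q x y) =
        Cfsg.hermForm n L q (fun i => e (x i)) (fun i => e (y i)) := fun x y => by simp [Cfsg.hermForm]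
    rw [hform, hform] at h
    have hmv : ∀ x : Fin n → F, (Cfsg.slToMat n L (Matrix.SpecialLinearGroup.map e.toRingHom a)).mulVec
        (fun i => e (x i)) = fun i => e ((Cfsg.slToMat n F a).mulVec x i) := fun x =>
      funext fun i => (RingHom.map_mulVec e.toRingHom _ x i).symm
    rw [hmv, hmv]
    exact h
  have inv : ∀ {F L : Type} [Field F] [Field L] (e : F ≃+* L) (a : Matrix.SpecialLinearGroup (Fin n) F),
      Matrix.SpecialLinearGroup.map e.symm.toRingHom (Matrix.SpecialLinearGroup.map e.toRingHom a) = a :=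
    fun e a => Subtype.ext (Matrix.ext fun i j => e.symm_apply_apply (a.1 i j))
  exact ⟨{ toFun := fun a => ⟨_, hmap e a.1 a.2⟩
           invFun := fun a => ⟨_, hmap e.symm a.1 a.2⟩
           left_inv := fun a => Subtype.ext (inv e a.1)
           right_inv := fun a => Subtype.ext (inv e.symm a.1)
           map_mul' := fun a b => Subtype.ext (map_mul (Matrix.SpecialLinearGroup.map e.toRingHom) a.1 b.1) }⟩

/-- Transport of the hypothesis along isomorphisms. -/
theorem shape_congr {G G' P P' : Type} [Group G] [Group G'] [Group P] [Group P'] (E : G ≃* G') (f : P ≃* P')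
    {H : Subgroup G}
    (h : Nat.card (Subgroup.center H) = 3 ∧ Nonempty (H ⧸ Subgroup.center H ≃* P)) :
    Nat.card (Subgroup.center (H.map E.toMonoidHom)) = 3 ∧
      Nonempty (H.map E.toMonoidHom ⧸ Subgroup.center (H.map E.toMonoidHom) ≃* P') := by
  obtain ⟨φ⟩ := h.2
  exact ⟨(Nat.card_congr (Subgroup.centerCongr (E.subgroupMap H)).toEquiv).symm.trans h.1,
    ⟨((Cfsg.Lib.Classical.centerQuotCongr (E.subgroupMap H)).symm.trans φ).trans f⟩⟩

theorem map_conj_equiv {G G' : Type} [Group G] [Group G'] (E : G ≃* G') (g : G) (H : Subgroup G) :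
    (H.map (MulAut.conj g).toMonoidHom).map E.toMonoidHom =
      (H.map E.toMonoidHom).map (MulAut.conj (E g)).toMonoidHom := by
  rw [Subgroup.map_map, Subgroup.map_map]
  congr 1
  ext x
  simp

theorem main (F : Type) [Field F] [Fintype F] (hF : Fintype.card F = 4) (F9 : Type) [Field F9] [Fintype F9]
    (hF9 : Fintype.card F9 = 9) :
    ∃ K₁ K₂ K₃ : Subgroup ↥(Cfsg.SU 6 F 2),
      (∀ K ∈ [K₁, K₂, K₃], Nat.card ↥(Subgroup.center ↥K) = 3 ∧
        Nonempty (↥K ⧸ Subgroup.center ↥K ≃* Cfsg.PSU 4 F9 3)) ∧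
      (¬ ∃ g : ↥(Cfsg.SU 6 F 2), K₁.map (MulAut.conj g).toMonoidHom = K₂) ∧
      (¬ ∃ g : ↥(Cfsg.SU 6 F 2), K₁.map (MulAut.conj g).toMonoidHom = K₃) ∧
      (¬ ∃ g : ↥(Cfsg.SU 6 F 2), K₂.map (MulAut.conj g).toMonoidHom = K₃) ∧
      ∀ K : Subgroup ↥(Cfsg.SU 6 F 2), Nat.card ↥(Subgroup.center ↥K) = 3 →
        Nonempty (↥K ⧸ Subgroup.center ↥K ≃* Cfsg.PSU 4 F9 3) →
        ∃ g : ↥(Cfsg.SU 6 F 2), K.map (MulAut.conj g).toMonoidHom = K₁ ∨ K.map (MulAut.conj g).toMonoidHom = K₂ ∨
          K.map (MulAut.conj g).toMonoidHom = K₃ := by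
  obtain ⟨E⟩ := su_congr (FiniteField.ringEquivOfCardEq (K := F) (K' := K) (hF.trans Cfsg.Lib.USixTwoCover.card_K.symm)) 6 2
  obtain ⟨f⟩ := Cfsg.Lib.UFourThreeCover.psu_congr
    (FiniteField.ringEquivOfCardEq (K := F9) (K' := Cfsg.Lib.UFourThreeCover.K) (hF9.trans Cfsg.Lib.UFourThreeCover.card_K.symm)) 4 3
  let L : ZMod 3 → Subgroup ↥(Cfsg.SU 6 F 2) := fun k => (KT k).map E.symm.toMonoidHom
  have hmm : ∀ H : Subgroup SU6, (H.map E.symm.toMonoidHom).map E.toMonoidHom = H := fun H => by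
    rw [Subgroup.map_map]
    have : E.toMonoidHom.comp E.symm.toMonoidHom = MonoidHom.id SU6 := MonoidHom.ext fun x => E.apply_symm_apply x
    rw [this, Subgroup.map_id]
  have hnot : ∀ i j : ZMod 3, i ≠ j → ¬ ∃ g, (L i).map (MulAut.conj g).toMonoidHom = L j := by
    rintro i j hij ⟨g, e⟩
    have := congrArg (Subgroup.map E.toMonoidHom) e
    rw [map_conj_equiv, hmm, hmm] at this
    exact KT_not_conj hij _ this
  refine ⟨L 0, L 1, L 2, fun H hH => ?_, hnot 0 1 (by decide), hnot 0 2 (by decide), hnot 1 2 (by decide), ?_⟩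
  · simp only [List.mem_cons, List.not_mem_nil, or_false] at hH
    rcases hH with rfl | rfl | rfl
    all_goals exact shape_congr E.symm f.symm (isThreeU_KT _)
  · intro H h1 h2
    obtain ⟨g, k, hk⟩ := classify (shape_congr E f ⟨h1, h2⟩ : IsThreeU (H.map E.toMonoidHom))
    refine ⟨E.symm g, ?_⟩
    have hH : H.map (MulAut.conj (E.symm g)).toMonoidHom = L k := by
      apply Subgroup.map_injective (f := E.toMonoidHom) E.injective
      rw [map_conj_equiv, hmm, E.apply_symm_apply, hk]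
    rcases (by decide : ∀ k : ZMod 3, k = 0 ∨ k = 1 ∨ k = 2) k with rfl | rfl | rfl
    · exact Or.inl hH
    · exact Or.inr (Or.inl hH)
    · exact Or.inr (Or.inr hH)

end Cfsg.UFourInUSix
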