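import Cfsg.Agent.UFourInUSix.Model

/-!
# Block diagonal elements
-/

set_option autoImplicit false
set_option maxRecDepth 20000
set_option maxHeartbeats 1000000

open Matrix Equiv

namespace Cfsg.UFourInUSix

open Cfsg.Lib.USixTwoCover (K dec sqr mul4)

/-- The code of a field element. -/
def kcd (x : K) : ℕ := x.code.val

theorem kcd_facts : ∀ x : K, dec (kcd x) = x ∧ kcd x < 4 := by
  simp only [Cfsg.Lib.PrimeGraph.KQuad.forall_iff]
  decide +kernel

/-- The code of a column triple. -/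
def col3 (x y z : K) : ℕ := kcd x + 4 * kcd y + 16 * kcd z

theorem col3_digits (x y z : K) :
    col3 x y z % 4 = kcd x ∧ col3 x y z / 4 % 4 = kcd y ∧ col3 x y z / 16 % 4 = kcd z ∧ col3 x y z < 64 := by
  have := (kcd_facts x).2; have := (kcd_facts y).2; have := (kcd_facts z).2
  unfold col3
  omega

theorem dec_sq {u : ℕ} (hu : u < 4) : dec (mul4 u u) = sqr (dec u) :=
  Cfsg.Lib.USixTwoCover.dec_mul hu hu

theorem herm3_col (x y z x' y' z' : K) :
    dec (herm3 (col3 x y z) (col3 x' y' z')) = x * sqr x' + y * sqr y' + z * sqr z' := by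
  have hm := Cfsg.Lib.USixTwoCover.mul_lt
  have hx := @Cfsg.Lib.USixTwoCover.xor_lt
  obtain ⟨a1, a2, a3, -⟩ := col3_digits x y z
  obtain ⟨b1, b2, b3, -⟩ := col3_digits x' y' z'
  rw [herm3, a1, a2, a3, b1, b2, b3, Cfsg.Lib.USixTwoCover.dec_add (hx (hm _ _) (hm _ _)) (hm _ _),
    Cfsg.Lib.USixTwoCover.dec_add (hm _ _) (hm _ _), Cfsg.Lib.USixTwoCover.dec_mul (kcd_facts x).2 (hm _ _),
    Cfsg.Lib.USixTwoCover.dec_mul (kcd_facts y).2 (hm _ _), Cfsg.Lib.USixTwoCover.dec_mul (kcd_facts z).2 (hm _ _),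
    dec_sq (kcd_facts x').2, dec_sq (kcd_facts y').2, dec_sq (kcd_facts z').2, (kcd_facts x).1, (kcd_facts y).1,
    (kcd_facts z).1, (kcd_facts x').1, (kcd_facts y').1, (kcd_facts z').1]

theorem herm3_lt (u v : ℕ) : herm3 u v < 4 :=
  Cfsg.Lib.USixTwoCover.xor_lt (Cfsg.Lib.USixTwoCover.xor_lt (Cfsg.Lib.USixTwoCover.mul_lt _ _)
    (Cfsg.Lib.USixTwoCover.mul_lt _ _)) (Cfsg.Lib.USixTwoCover.mul_lt _ _)

/-- A coset of three orthonormal columns. -/
theorem three_coset (U : Fin 3 → Fin 3 → K)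
    (h : ∀ a b, U 0 a * sqr (U 0 b) + U 1 a * sqr (U 1 b) + U 2 a * sqr (U 2 b) = if a = b then 1 else 0) :
    ∃ r : Fin 4, ∃ p : Fin 6,
      mon3 (colsC (col3 (U 0 0) (U 1 0) (U 2 0)) (col3 (U 0 1) (U 1 1) (U 2 1)) (col3 (U 0 2) (U 1 2) (U 2 2)))
        r.val p.val = true := by
  let c : Fin 3 → ℕ := fun a => col3 (U 0 a) (U 1 a) (U 2 a)
  have hh : ∀ a b, herm3 (c a) (c b) = if a = b then 1 else 0 := fun a b => by
    refine dec_inj' (herm3_lt _ _) (by split <;> norm_num) ?_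
    rw [herm3_col, h]
    split <;> decide +kernel
  have hu : ∀ a, c a ∈ units3 := fun a => List.mem_filter.2
    ⟨List.mem_range.2 (col3_digits _ _ _).2.2.2, by rw [hh]; simp⟩
  have h1 := List.all_eq_true.1 (List.all_eq_true.1 cosets3 _ (hu 0)) _ (hu 1)
  rw [hh, Bool.or_eq_true] at h1
  rcases h1 with h1 | h1
  · simp at h1
  have h2 := List.all_eq_true.1 h1 _ (hu 2)
  rw [hh, hh, Bool.or_eq_true] at h2
  rcases h2 with h2 | h2
  · simp at h2
  obtain ⟨r, hr, h3⟩ := List.any_eq_true.1 h2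
  obtain ⟨p, hp, h4⟩ := List.any_eq_true.1 h3
  exact ⟨⟨r, List.mem_range.1 hr⟩, ⟨p, List.mem_range.1 hp⟩, h4⟩

theorem e3_colsC (a b c : ℕ) {i j : ℕ} (hi : i < 3) (hj : j < 3) :
    e3 (colsC a b c) i j = (if j = 0 then a else if j = 1 then b else c) / 4 ^ i % 4 := by
  interval_cases i <;> interval_cases j <;> simp [e3, colsC, List.range_succ]

theorem dot6_blkc (A B R S : CMat) : ∀ i j : Fin 6, dot6 (blkc A B) (blkc R S) i.val j.val =
    if i.val < 3 then (if j.val < 3 then dot3 A R i.val j.val else 0)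
    else (if j.val < 3 then 0 else dot3 B S (i.val - 3) (j.val - 3)) := by
  have hz : ∀ x, x < 4 → mul4 0 x = 0 := fun x hx => by
    have : ∀ y : Fin 4, mul4 0 y.val = 0 := by decide
    exact this ⟨x, hx⟩
  have hz' : ∀ x, x < 4 → mul4 x 0 = 0 := fun x hx => by
    have : ∀ y : Fin 4, mul4 y.val 0 = 0 := by decide
    exact this ⟨x, hx⟩
  have he : ∀ (X : CMat) (i j : ℕ), e3 X i j < 4 := fun X i j => Nat.mod_lt _ (by norm_num)
  intro i j
  fin_cases i <;> fin_cases j <;> simp [dot6, dot3, ent_blkc, hz _ (he _ _ _), hz' _ (he _ _ _), hz' 0 (by norm_num)]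

/-- A block diagonal element is a monomial element times a representative. -/
theorem block_decomp {g : SU6} (hg : ∀ i j : Fin 6, i.val / 3 ≠ j.val / 3 → mt g i j = 0) :
    ∃ a b, g * (bel a b)⁻¹ ∈ MN := by
  have hu := fun i j => congrFun (congrFun (mt_unitary g) i) j
  simp only [Matrix.mul_apply, Matrix.transpose_apply, Matrix.map_apply, Fin.sum_univ_six, Matrix.one_apply] at hu
  obtain ⟨a, p, hp⟩ := three_coset (fun i j => mt g (i.castLE (by norm_num)) (j.castLE (by norm_num))) fun x y => by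
    have h := hu (x.castLE (by norm_num)) (y.castLE (by norm_num))
    fin_cases x <;> fin_cases y <;> simp at h ⊢ <;> simpa [hg] using h
  obtain ⟨b, q, hq⟩ := three_coset
      (fun i j => mt g ⟨3 + i.val, by omega⟩ ⟨3 + j.val, by omega⟩) fun x y => by
    have h := hu ⟨3 + x.val, by omega⟩ ⟨3 + y.val, by omega⟩
    fin_cases x <;> fin_cases y <;> simp at h ⊢ <;> simpa [hg] using h
  set U' := colsC (col3 (mt g 0 0) (mt g 1 0) (mt g 2 0)) (col3 (mt g 0 1) (mt g 1 1) (mt g 2 1))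
    (col3 (mt g 0 2) (mt g 1 2) (mt g 2 2)) with hU'
  set W' := colsC (col3 (mt g 3 3) (mt g 4 3) (mt g 5 3)) (col3 (mt g 3 4) (mt g 4 4) (mt g 5 4))
    (col3 (mt g 3 5) (mt g 4 5) (mt g 5 5)) with hW'
  have hp' : mon3 U' a.val p.val = true := hp
  have hq' : mon3 W' b.val q.val = true := hq
  have hgm : mt g = dm (blkc U' W') := by
    ext i j
    have d := fun x y z => col3_digits x y z
    have k := fun x => (kcd_facts x).1
    fin_cases i <;> fin_cases j <;>
      simp [dm, ent_blkc, hU', hW', e3_colsC, d, k, hg, show dec 0 = (0 : K) from rfl]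
  have hi : mt (bel a b)⁻¹ = dm (cct (bcode a b)) := mt_inv_code rfl (x_inv_ok false a b)
  let x : Fin 6 → K := fun j =>
    dm (cmul (blkc U' W') (blkc (cct3 (rep3.getD a.val [])) (cct3 (rep3.getD b.val [])))) (perm6 p q j) j
  refine ⟨a, b, mem_MN_of_monMat (π := perm6 p q) (x := x) ?_⟩
  rw [mt_mul, hgm, hi, ceq_spec (cct_blk a b), ← dm_cmul]
  ext i j
  show _ = if i = perm6 p q j then x j else 0
  split
  · next h => subst h; rfl
  · next h =>
    rw [dm, Matrix.of_apply, ent_cmul _ _ i.isLt j.isLt, dot6_blkc]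
    have hne : i.val ≠ (perm6 p q j).val := fun e => h (Fin.ext e)
    rw [perm6_ok] at hne
    have look : ∀ {U : CMat} {r p : ℕ}, mon3 U r p = true → ∀ i j, i < 3 → j < 3 → i ≠ (p3.getD p []).getD j 0 →
        dot3 U (cct3 (rep3.getD r [])) i j = 0 := fun hm i j hi hj hne => by
      have := List.all_eq_true.1 (List.all_eq_true.1 hm j (List.mem_range.2 hj)) i (List.mem_range.2 hi)
      rw [Bool.or_eq_true] at this
      exact Nat.eq_of_beq_eq_true (this.resolve_left fun e => hne (Nat.eq_of_beq_eq_true e))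
    split
    · split
      · next h1 h2 =>
        rw [if_pos h2] at hne
        rw [look hp' _ _ h1 h2 hne]
        rfl
      · rfl
    · split
      · rfl
      · next h1 h2 =>
        rw [if_neg h2] at hne
        rw [look hq' (i.val - 3) (j.val - 3) (by omega) (by omega) (by omega)]
        rfl

end Cfsg.UFourInUSix
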