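import Cfsg.Agent.UFourInUSix.Forms

/-!
Computations with the coded vectors, matrices and certificates.
-/

set_option autoImplicit false
set_option maxRecDepth 100000

open Matrix Equiv

namespace Cfsg.UFourInUSix

open Cfsg.Lib.USixTwoCover (mul4)
open Cfsg.Lib.PermCert (ap)

/-- A letter of the cover. -/
abbrev ctab (l : ℕ) : ℕ := Cfsg.Lib.UFourThreeCover.tab l

/-- The code of a vector. -/
def vcode (a : ℕ) : ℕ := ap vtab a

/-- The code of a letter. -/
def gc (l : ℕ) : CMat := gmat.getD l []

/-- Membership of a vector in the orbit. -/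
def inV (c : ℕ) : Bool := vset.testBit c

/-- A letter maps the vectors as in the cover. -/
def vecG (l : ℕ) : Bool := (List.range 378).all fun a =>
  Nat.ble 2160 (ap (ctab l) (2160 + a)) && Nat.blt (ap (ctab l) (2160 + a)) 2538 &&
    Nat.beq (vimg (gc l) (vcode a)) (vcode (ap (ctab l) (2160 + a) - 2160))

theorem vecG_ok : (List.range 3).all vecG = true := by decide +kernel

theorem vcode_ok : ((List.range 378).all fun a => Nat.blt (vcode a) 4096 && inV (vcode a)) = true := by
  decide +kernel

theorem gc_ok : ((List.range 3).all fun l =>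
    ceq (cmul (gc l) (gc l)) cone && ceq (cmul (ctp (gc l)) (csq (gc l))) cone) = true := by decide +kernel

/-- The matrix with the basis vectors as columns. -/
def bmat : CMat := (List.range 6).map fun i => (List.range 6).map fun j => vcode (brow.getD j 0) / 4 ^ i % 4

theorem basis_ok : ceq (cmul bmat binv) cone = true ∧ (brow.all fun r => Nat.blt r 378) = true ∧
    brow.length = 6 := by decide +kernel

/-- The code of a word. -/
def wcode (w : List ℕ) : CMat := cprod (w.map gc)

/-- The letters of a word are valid. -/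
def wlt (w : List ℕ) : Bool := w.all fun l => Nat.blt l 3

theorem dWords_ok : ∀ i : Fin 5, wlt (dWords.getD i.val []) = true ∧
    ceq (wcode (dWords.getD i.val [])) (monCode 1 (ext6 (Pi.single i 1))) = true := by decide +kernel

/-- The code of a triple. -/
def tidx (a b c : Fin 6) : ℕ := 36 * a.val + 6 * b.val + c.val

theorem tWords_ok : ∀ a b c : Fin 6, a ≠ b → b ≠ c → a ≠ c → wlt (tWords.getD (tidx a b c) []) = true ∧
    ceq (wcode (tWords.getD (tidx a b c) [])) (monCode (swap a b * swap b c) 0) = true := by decide +kernel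

theorem gWord_ok : wlt gWord = true ∧ ceq (wcode gWord) (xcode true 1 1) = true := by decide +kernel

theorem zWords_ok : (∀ k : Fin 3, wlt (Cfsg.Lib.UFourThreeCover.zWords.getD k.val []) = true ∧
    ∃ c : ZMod 3, ceq (wcode (Cfsg.Lib.UFourThreeCover.zWords.getD k.val [])) (monCode 1 fun _ => c) = true) ∧
    ∃ k : Fin 3, ∃ c : ZMod 3, c ≠ 0 ∧
      ceq (wcode (Cfsg.Lib.UFourThreeCover.zWords.getD k.val [])) (monCode 1 fun _ => c) = true := by
  decide +kernel

/-- No column and row pattern of a permutation. -/
def notMon (a : CMat) : Bool :=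
  (List.range 6).any fun j => (List.range 6).any fun i => (List.range 6).any fun k =>
    Nat.blt i k && Nat.blt 0 (ent a i j) && Nat.blt 0 (ent a k j)

theorem cos_ok : ∀ i : Fin 57, wlt (cosWords.getD i.val []) = true ∧
    ceq (wcode (cosWords.getD i.val [])) (cosMats.getD i.val []) = true ∧
    ceq (cmul (cct (cosMats.getD i.val [])) (cosMats.getD i.val [])) cone = true := by decide +kernel

theorem cos_sep : ∀ i j : Fin 57, i < j →
    notMon (cmul (cct (cosMats.getD i.val [])) (cosMats.getD j.val [])) = true := by decide +kernel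

/-- A representative code from a triple. -/
def keyX (t : ℕ × ℕ × ℕ) : CMat :=
  xcode (Nat.beq t.1 1) ⟨t.2.1 % 4, Nat.mod_lt _ (by norm_num)⟩ ⟨t.2.2 % 4, Nat.mod_lt _ (by norm_num)⟩

/-- The code of an item. -/
def itCode (x : CMat) (u : ℕ × MCode) : CMat :=
  if Nat.beq u.1 1 then x else if Nat.beq u.1 2 then cct x else mcode u.2

/-- The code of a list of items. -/
def itsCode (x : CMat) (L : List (ℕ × MCode)) : CMat := cprod (L.map (itCode x))

/-- The code of a product of twists of a representative with monomial elements. -/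
def elevCode (x : CMat) (L : List MCode) : CMat := cprod (L.map fun t => cmul x (mcode t))

/-- The power of a code. -/
def cpow (a : CMat) : ℕ → CMat
  | 0 => cone
  | n + 1 => cmul a (cpow a n)

theorem x_inv_ok : ∀ (e : Bool) (a b : Fin 4), ceq (cmul (cct (xcode e a b)) (xcode e a b)) cone = true := by
  decide +kernel

theorem eleven_ok : (elevenCert.all fun c =>
    !(ceq (elevCode (keyX c.1) c.2) cone) && ceq (cpow (elevCode (keyX c.1) c.2) 11) cone) = true := by decide +kernel

theorem twist_ok : (twistCert.all fun c => (List.range 3).all fun l =>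
    ceq (itsCode (keyX c.1) (c.2.2.getD l [])) (cdelta (c.2.1 : ℕ) (gc l))) = true := by decide +kernel

theorem odd_ok : (oddCert.all fun c => ceq (itsCode (keyX c.1) c.2) tcode) = true := by decide +kernel

/-- The kind of a representative. -/
def kindOK (e : Bool) (a b : Fin 4) : Bool :=
  if a.val = 0 ∧ b.val = 0 then true
  else if a.val = 0 ∨ b.val = 0 then elevenCert.any fun c => decide (c.1 = (e.toNat, a.val, b.val))
  else if e then twistCert.any fun c => decide (c.1 = (e.toNat, a.val, b.val))
  else oddCert.any fun c => decide (c.1 = (e.toNat, a.val, b.val))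

theorem kind_ok : ∀ (e : Bool) (a b : Fin 4), kindOK e a b = true := by decide +kernel

/-- An escape of a vector. -/
def escCode (t : ℕ × ℕ × ℕ × ℕ) : CMat :=
  if Nat.beq t.1 1 then cmul tcode (cmul (cdelta (t.2.1 : ℕ) (gc t.2.2.1)) tcode) else cdelta (t.2.1 : ℕ) (gc t.2.2.1)

theorem escape_ok : (escapes.all fun t => Nat.blt t.2.2.1 3 && Nat.blt t.2.2.2 378 &&
    !(inV (vimg (escCode t) (vcode t.2.2.2)))) = true := by decide +kernel

theorem escape_cover : ∀ (e : Bool) (k : ZMod 3), k ≠ 0 →
    (escapes.any fun t => decide (t.1 = e.toNat ∧ t.2.1 = k.val)) = true := by decide +kernel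

/-- An entry of a three by three product. -/
def dot3 (A B : CMat) (i j : ℕ) : ℕ :=
  (mul4 (e3 A i 0) (e3 B 0 j) ^^^ mul4 (e3 A i 1) (e3 B 1 j)) ^^^ mul4 (e3 A i 2) (e3 B 2 j)

/-- The conjugate transposed three by three code. -/
def cct3 (A : CMat) : CMat :=
  (List.range 3).map fun i => (List.range 3).map fun j => mul4 (e3 A j i) (e3 A j i)

/-- The six permutations of three letters. -/
def p3 : List (List ℕ) := [[0, 1, 2], [0, 2, 1], [1, 0, 2], [1, 2, 0], [2, 0, 1], [2, 1, 0]]

/-- The norm product of two vectors. -/
def herm3 (u v : ℕ) : ℕ :=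
  (mul4 (u % 4) (mul4 (v % 4) (v % 4)) ^^^ mul4 (u / 4 % 4) (mul4 (v / 4 % 4) (v / 4 % 4))) ^^^
    mul4 (u / 16 % 4) (mul4 (v / 16 % 4) (v / 16 % 4))

/-- A three by three code from its columns. -/
def colsC (a b c : ℕ) : CMat := (List.range 3).map fun i => [a / 4 ^ i % 4, b / 4 ^ i % 4, c / 4 ^ i % 4]

/-- The unit vectors. -/
def units3 : List ℕ := (List.range 64).filter fun u => Nat.beq (herm3 u u) 1

/-- The product of the given code with the inverse of a representative is monomial. -/
def mon3 (U : CMat) (r p : ℕ) : Bool :=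
  (List.range 3).all fun j => (List.range 3).all fun i =>
    Nat.beq i ((p3.getD p []).getD j 0) || Nat.beq (dot3 U (cct3 (rep3.getD r [])) i j) 0

theorem cosets3 : (units3.all fun a => units3.all fun b => !(Nat.beq (herm3 a b) 0) || units3.all fun c =>
    !(Nat.beq (herm3 a c) 0 && Nat.beq (herm3 b c) 0) ||
      (List.range 4).any fun r => (List.range 6).any fun p => mon3 (colsC a b c) r p) = true := by decide +kernel

/-- The permutation of two triples. -/
def perm6 (p q : Fin 6) : Perm (Fin 6) :=
  List.prod [(if p.val = 1 then swap 1 2 else if p.val = 2 then swap 0 1 else if p.val = 3 then swap 0 1 * swap 1 2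
      else if p.val = 4 then swap 1 2 * swap 0 1 else if p.val = 5 then swap 0 2 else 1),
    (if q.val = 1 then swap 4 5 else if q.val = 2 then swap 3 4 else if q.val = 3 then swap 3 4 * swap 4 5
      else if q.val = 4 then swap 4 5 * swap 3 4 else if q.val = 5 then swap 3 5 else 1)]

theorem perm6_ok : ∀ (p q j : Fin 6), (perm6 p q j).val =
    if j.val < 3 then (p3.getD p.val []).getD j.val 0 else 3 + (p3.getD q.val []).getD (j.val - 3) 0 := by
  decide +kernel

theorem cct_blk : ∀ a b : Fin 4, ceq (cct (bcode a b))
    (blkc (cct3 (rep3.getD a.val [])) (cct3 (rep3.getD b.val []))) = true := by decide +kernel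

theorem bel_shape : ∀ a : Fin 4, a ≠ 0 → notMon (xcode true a a) = true := by decide +kernel

end Cfsg.UFourInUSix
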