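import Cfsg.Agent.UFourInUSix.Lift

/-!
# The three classes
-/

set_option autoImplicit false
set_option maxRecDepth 20000
set_option maxHeartbeats 1000000
set_option linter.style.haveILetI false

open Matrix Equiv

namespace Cfsg.UFourInUSix

open Cfsg.Lib.USixTwoCover (K dec sqr)
open Cfsg.Lib.UFourThreeCover (imD top_eq)

attribute [local irreducible] tripleKK

/-- The twisted subgroups. -/
noncomputable def KT (k : ZMod 3) : Subgroup SU6 := KK.map (twist k).toMonoidHom

theorem card_KT (k : ZMod 3) : Nat.card (KT k) = 9797760 :=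
  (Subgroup.card_map_of_injective (twist k).injective).trans tripleKK.card

theorem MP_le_KT {P : Subgroup (Perm (Fin 6))} (h : MP P ≤ KK) (k : ZMod 3) : MP P ≤ KT k :=
  (twist_MP k P).ge.trans (Subgroup.map_mono h)

theorem gam_mem (l : Fin 3) : gam l ∈ KK :=
  ⟨imD l.val, mt_ext ((mt_rho_imD l.isLt).trans (mt_ofCode _ _ _).symm)⟩

theorem rho_gen {W : Subgroup SU6} {f : SU6 →* SU6} (h : ∀ l, f (gam l) ∈ W) : KK.map f ≤ W := by
  rintro _ ⟨_, ⟨c, rfl⟩, rfl⟩
  have : W.comap (f.comp rho) = ⊤ := top_eq fun l hl => by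
    rw [Subgroup.mem_comap, MonoidHom.comp_apply]
    have e : rho (imD l) = gam ⟨l, hl⟩ := mt_ext ((mt_rho_imD hl).trans (mt_ofCode _ _ _).symm)
    rw [e]
    exact h _
  exact (this.symm ▸ Subgroup.mem_top c : c ∈ W.comap (f.comp rho))

theorem mt_item (e : Bool) (a b : Fin 4) (u : ℕ × MCode) :
    ∃ g, (g = xel e a b ∨ g = (xel e a b)⁻¹ ∨ g ∈ MM) ∧ mt g = dm (itCode (xcode e a b) u) := by
  unfold itCode
  split
  · exact ⟨_, Or.inl rfl, mt_xel e a b⟩
  split
  · exact ⟨_, Or.inr (Or.inl rfl), mt_inv_code (mt_xel e a b) (x_inv_ok e a b)⟩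
  · exact ⟨_, Or.inr (Or.inr (melt_mem _)), mt_melt _⟩

theorem items_mem {H : Subgroup SU6} (hMM : MM ≤ H) {e : Bool} {a b : Fin 4} (hx : xel e a b ∈ H)
    (L : List (ℕ × MCode)) : ∃ g ∈ H, mt g = dm (itsCode (xcode e a b) L) := by
  induction L with
  | nil => exact ⟨1, one_mem _, mt_one.trans dm_cone.symm⟩
  | cons u L ih =>
    obtain ⟨g, hg, eg⟩ := ih
    obtain ⟨f, hf, ef⟩ := mt_item e a b u
    refine ⟨f * g, mul_mem ?_ hg, ?_⟩
    · rcases hf with rfl | rfl | hf
      exacts [hx, inv_mem hx, hMM hf]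
    · rw [mt_mul, ef, eg, ← dm_cmul]
      rfl

theorem eleven_mem {H : Subgroup SU6} (hMM : MM ≤ H) {e : Bool} {a b : Fin 4} (hx : xel e a b ∈ H)
    (L : List MCode) : ∃ g ∈ H, mt g = dm (elevCode (xcode e a b) L) := by
  induction L with
  | nil => exact ⟨1, one_mem _, mt_one.trans dm_cone.symm⟩
  | cons u L ih =>
    obtain ⟨g, hg, eg⟩ := ih
    refine ⟨xel e a b * melt u * g, mul_mem (mul_mem hx (hMM (melt_mem u))) hg, ?_⟩
    rw [mt_mul, mt_mul, mt_xel, mt_melt, eg, ← dm_cmul, ← dm_cmul]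
    rfl

theorem mt_pow_code {g : SU6} {a : CMat} (h : mt g = dm a) : ∀ n, mt (g ^ n) = dm (cpow a n)
  | 0 => by rw [pow_zero, mt_one]; exact dm_cone.symm
  | n + 1 => by rw [pow_succ', mt_mul, h, mt_pow_code h n, ← dm_cmul]; rfl

theorem keyX_of {e : Bool} {a b : Fin 4} {t : ℕ × ℕ × ℕ} (h : t = (e.toNat, a.val, b.val)) :
    keyX t = xcode e a b := by
  subst h
  have he : Nat.beq e.toNat 1 = e := by cases e <;> rfl
  have ha : (⟨a.val % 4, Nat.mod_lt _ (by norm_num)⟩ : Fin 4) = a := Fin.ext (Nat.mod_eq_of_lt a.isLt)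
  have hb : (⟨b.val % 4, Nat.mod_lt _ (by norm_num)⟩ : Fin 4) = b := Fin.ext (Nat.mod_eq_of_lt b.isLt)
  simp [keyX, he, ha, hb]

theorem mt_twist_gam (k : ZMod 3) (l : Fin 3) : mt (twist k (gam l)) = dm (cdelta k (gc l.val)) :=
  mt_twist k (mt_ofCode _ _ _)

/-- Every aligned subgroup is one of the three. -/
theorem aligned_eq {H : Subgroup SU6} (T : Aligned H) : ∃ k, H = KT k := by
  obtain ⟨e, a, b, hne, hx⟩ := T.exists_rep
  have h := kind_ok e a b
  rw [kindOK, if_neg hne] at h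
  by_cases h0 : a.val = 0 ∨ b.val = 0
  · rw [if_pos h0, List.any_eq_true] at h
    obtain ⟨c, hc, hk⟩ := h
    have hchk := List.all_eq_true.1 eleven_ok c hc
    rw [keyX_of (of_decide_eq_true hk), Bool.and_eq_true, Bool.not_eq_true'] at hchk
    obtain ⟨g, hg, eg⟩ := eleven_mem T.MM_le hx c.2
    have hg1 : g ≠ 1 := fun h1 => by
      have : ceq (elevCode (xcode e a b) c.2) cone = true :=
        ceq_of_dm (by rw [← eg, h1, mt_one, dm_cone])
      exact Bool.noConfusion (hchk.1.symm.trans this)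
    have hpow : g ^ 11 = 1 := mt_ext (by rw [mt_pow_code eg, ceq_spec hchk.2, dm_cone, mt_one])
    haveI : Fact (Nat.Prime 11) := ⟨by norm_num⟩
    have hord := orderOf_eq_prime hpow hg1
    have hdvd := Subgroup.orderOf_dvd_natCard H hg
    rw [hord, T.toTriple.card] at hdvd
    exact absurd hdvd (by norm_num)
  rw [if_neg h0] at h
  cases e
  · rw [if_neg (by decide), List.any_eq_true] at h
    obtain ⟨c, hc, hk⟩ := h
    have hchk := List.all_eq_true.1 odd_ok c hc
    rw [keyX_of (of_decide_eq_true hk)] at hchk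
    obtain ⟨g, hg, eg⟩ := items_mem T.MM_le hx c.2
    exact absurd (mt_ext (eg.trans ((ceq_spec hchk).trans mt_tau.symm)) ▸ hg) T.tau_not
  · rw [if_pos rfl, List.any_eq_true] at h
    obtain ⟨c, hc, hk⟩ := h
    refine ⟨(c.2.1 : ℕ), (Subgroup.eq_of_le_of_card_ge (rho_gen fun l => ?_) ?_).symm⟩
    · have hchk := List.all_eq_true.1 (List.all_eq_true.1 twist_ok c hc) l.val (List.mem_range.2 l.isLt)
      rw [keyX_of (of_decide_eq_true hk)] at hchk
      obtain ⟨g, hg, eg⟩ := items_mem T.MM_le hx (c.2.2.getD l.val [])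
      exact mt_ext (eg.trans ((ceq_spec hchk).trans (mt_twist_gam _ l).symm)) ▸ hg
    · exact (T.toTriple.card.trans (card_KT _).symm).le

theorem escape {k : ZMod 3} (hk : k ≠ 0) (e : Bool) :
    ¬ ∀ l, (if e then tau * twist k (gam l) * tau else twist k (gam l)) ∈ KK := by
  intro hall
  obtain ⟨t, ht, hkey⟩ := List.any_eq_true.1 (escape_cover e k hk)
  obtain ⟨h1, h2⟩ := of_decide_eq_true hkey
  have hchk := List.all_eq_true.1 escape_ok t ht
  simp only [Bool.and_eq_true, Bool.not_eq_true'] at hchk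
  obtain ⟨⟨hl, ha⟩, hv⟩ := hchk
  have hk' : ((t.2.1 : ℕ) : ZMod 3) = k := by rw [h2, ZMod.natCast_zmod_val]
  have h := hall ⟨t.2.2.1, blt_of hl⟩
  have hm : mt (if e then tau * twist k (gam ⟨t.2.2.1, blt_of hl⟩) * tau else twist k (gam ⟨t.2.2.1, blt_of hl⟩)) =
      dm (escCode t) := by
    rw [escCode, h1, hk']
    cases e
    · exact mt_twist_gam _ _
    · show mt (tau * twist k _ * tau) = _
      rw [mt_mul, mt_mul, mt_twist_gam, mt_tau, ← dm_cmul, ← dm_cmul]
      simp only [dm_cmul, Matrix.mul_assoc]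
      simp [dm_cmul]
  exact Bool.noConfusion ((inV_of_mem h hm ⟨t.2.2.2, blt_of ha⟩).symm.trans hv)

theorem card_sylow {G : Type*} [Group G] [Finite G] {P : Subgroup G} (hc : Nat.card G = 9797760)
    (hP : Nat.card P = 2187) : ∃ S : Sylow 3 G, (S : Subgroup G) = P := by
  haveI : Fact (Nat.Prime 3) := ⟨by norm_num⟩
  refine ⟨Sylow.ofCard P ?_, Sylow.coe_ofCard P _⟩
  rw [hP, hc, show (9797760 : ℕ) = 3 ^ 7 * 4480 from by norm_num,
    Nat.factorization_mul (by norm_num) (by norm_num), Finsupp.add_apply, Nat.Prime.factorization_pow (by norm_num),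
    Finsupp.single_eq_same, Nat.factorization_eq_zero_of_not_dvd (by norm_num : ¬ 3 ∣ 4480)]
  rfl

/-- The first subgroup is conjugate to no twisted one. -/
theorem not_conj {k : ZMod 3} (hk : k ≠ 0) (h : SU6) : KK.map (MulAut.conj h).toMonoidHom ≠ KT k := by
  intro e
  haveI : Fact (Nat.Prime 3) := ⟨by norm_num⟩
  have hS : SS ≤ KT k := MP_le_KT (SS_le_MM.trans MM_le_KK) k
  have hS' : SS.map (MulAut.conj h).toMonoidHom ≤ KT k :=
    (Subgroup.map_mono (SS_le_MM.trans MM_le_KK)).trans e.le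
  obtain ⟨P, hP⟩ := card_sylow (card_KT k)
    ((Nat.card_congr (Subgroup.subgroupOfEquivOfLe hS').toEquiv).trans
      ((Subgroup.card_map_of_injective (MulAut.conj h).injective).trans card_SS))
  obtain ⟨P', hP'⟩ := card_sylow (card_KT k) ((Nat.card_congr (Subgroup.subgroupOfEquivOfLe hS).toEquiv).trans card_SS)
  obtain ⟨u, hu⟩ := MulAction.exists_smul_eq (KT k) P P'
  have hu' : ∀ x ∈ SS, (u : SU6) * (h * x * h⁻¹) * (u : SU6)⁻¹ ∈ SS := fun x hx => by
    have hxm : h * x * h⁻¹ ∈ SS.map (MulAut.conj h).toMonoidHom := ⟨x, hx, rfl⟩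
    have hmem : (⟨h * x * h⁻¹, hS' hxm⟩ : KT k) ∈ (P : Subgroup (KT k)) := by rw [hP]; exact hxm
    have : MulAut.conj u ⟨h * x * h⁻¹, hS' hxm⟩ ∈ ((u • P : Sylow 3 (KT k)) : Subgroup (KT k)) := by
      rw [Sylow.smul_def, Sylow.pointwise_smul_def]
      exact Subgroup.smul_mem_pointwise_smul _ _ _ hmem
    rw [hu, hP'] at this
    exact this
  have hM : (u : SU6) * h ∈ MN := by
    refine mem_MN_of_normalises fun y hy => ?_
    have hX : DD.map (MulAut.conj ((u : SU6) * h)).toMonoidHom = DD := by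
      refine eq_DD ?_ ((Subgroup.card_map_of_injective (MulAut.conj _).injective).trans card_DD) ?_
      · rintro _ ⟨x, hx, rfl⟩
        simpa [mul_assoc] using hu' x (DD_le_SS hx)
      · rintro _ ⟨x, hx, rfl⟩ _ ⟨y, hy, rfl⟩
        obtain ⟨d, hd, rfl⟩ := mem_DD.1 hx
        obtain ⟨d', hd', rfl⟩ := mem_DD.1 hy
        rw [← map_inv, ← map_inv, ← map_mul, ← map_mul, ← map_mul]
        have : mon 1 d hd * mon 1 d' hd' = mon 1 d' hd' * mon 1 d hd := by
          rw [mon_mul, mon_mul]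
          exact mon_ext rfl (funext fun i => by simp [add_comm])
        rw [this, mul_inv_cancel_right, mul_inv_cancel, map_one]
        exact one_mem _
    exact hX.le ⟨y, hy, rfl⟩
  have hKT : ∀ z ∈ KT k, ((u : SU6) * h)⁻¹ * z * ((u : SU6) * h) ∈ KK := fun z hz => by
    have hz' : (u : SU6)⁻¹ * z * u ∈ KK.map (MulAut.conj h).toMonoidHom :=
      e.ge (mul_mem (mul_mem (inv_mem u.2) hz) u.2)
    obtain ⟨x, hx, ex⟩ := hz'
    have ex' : h * x * h⁻¹ = (u : SU6)⁻¹ * z * u := ex
    have : ((u : SU6) * h)⁻¹ * z * ((u : SU6) * h) = x := by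
      rw [_root_.mul_inv_rev]
      calc h⁻¹ * (u : SU6)⁻¹ * z * ((u : SU6) * h) = h⁻¹ * ((u : SU6)⁻¹ * z * u) * h := by group
        _ = x := by rw [← ex']; group
    rwa [this]
  have hgam : ∀ l, twist k (gam l) ∈ KT k := fun l => ⟨gam l, gam_mem l, rfl⟩
  rcases MN_split hM with hm | hm
  · refine escape hk false fun l => ?_
    have := mul_mem (mul_mem (MM_le_KK hm) (hKT _ (hgam l))) (inv_mem (MM_le_KK hm))
    simpa [mul_assoc] using this
  · refine escape hk true fun l => ?_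
    have hmT : (u : SU6) * h * tau ∈ KT k := MP_le_KT MM_le_KK k hm
    have := hKT _ (mul_mem (mul_mem hmT (hgam l)) (inv_mem hmT))
    show tau * twist k (gam l) * tau ∈ KK
    have ht : tau⁻¹ = tau := inv_eq_of_mul_eq_one_right tau_mul_tau
    simpa [mul_assoc, ht] using this

theorem map_conj_twist (j : ZMod 3) (g : SU6) (H : Subgroup SU6) :
    (H.map (MulAut.conj g).toMonoidHom).map (twist j).toMonoidHom =
      (H.map (twist j).toMonoidHom).map (MulAut.conj (twist j g)).toMonoidHom := by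
  rw [Subgroup.map_map, Subgroup.map_map]
  congr 1
  ext x
  simp

theorem twist_KT (i j : ZMod 3) : (KT i).map (twist j).toMonoidHom = KT (j + i) := by
  rw [KT, KT, Subgroup.map_map]
  congr 1
  ext1 x
  exact twist_add j i x

theorem KT_zero : KT 0 = KK := by
  rw [KT, show (twist 0).toMonoidHom = MonoidHom.id SU6 from MonoidHom.ext twist_zero, Subgroup.map_id]

theorem KT_not_conj {i j : ZMod 3} (hij : i ≠ j) (g : SU6) : (KT i).map (MulAut.conj g).toMonoidHom ≠ KT j := by
  intro e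
  have := congrArg (Subgroup.map (twist (-i)).toMonoidHom) e
  rw [map_conj_twist, twist_KT, twist_KT, neg_add_cancel, KT_zero] at this
  exact not_conj (k := -i + j) (fun h => hij (by rw [neg_add_eq_zero] at h; exact h)) _ this

/-- The hypothesis on a subgroup. -/
def IsThreeU (H : Subgroup SU6) : Prop :=
  Nat.card (Subgroup.center H) = 3 ∧ Nonempty (H ⧸ Subgroup.center H ≃* Q9)

theorem isThreeU_map {H : Subgroup SU6} (e : SU6 ≃* SU6) (h : IsThreeU H) : IsThreeU (H.map e.toMonoidHom) := by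
  obtain ⟨φ⟩ := h.2
  let E : H ≃* H.map e.toMonoidHom := e.subgroupMap H
  exact ⟨(Nat.card_congr (Subgroup.centerCongr E).toEquiv).symm.trans h.1,
    ⟨(Cfsg.Lib.Classical.centerQuotCongr E).symm.trans φ⟩⟩

theorem isThreeU_KT (k : ZMod 3) : IsThreeU (KT k) := isThreeU_map _ tripleKK.is

theorem card_threeU {H : Subgroup SU6} (h : IsThreeU H) : Nat.card H = 9797760 := by
  obtain ⟨φ⟩ := h.2
  rw [Subgroup.card_eq_card_quotient_mul_card_subgroup (Subgroup.center H), Nat.card_congr φ.toEquiv, card_Q9, h.1]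

theorem exists_conj_SS {H : Subgroup SU6} (h : IsThreeU H) : ∃ g, SS ≤ H.map (MulAut.conj g).toMonoidHom := by
  haveI : Fact (Nat.Prime 3) := ⟨by norm_num⟩
  have hfacH : (Nat.card H).factorization 3 = 7 := by
    rw [card_threeU h, show (9797760 : ℕ) = 3 ^ 7 * 4480 from by norm_num,
      Nat.factorization_mul (by norm_num) (by norm_num), Finsupp.add_apply,
      Nat.Prime.factorization_pow (by norm_num), Finsupp.single_eq_same,
      Nat.factorization_eq_zero_of_not_dvd (by norm_num : ¬ 3 ∣ 4480)]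
  have hfac : (Nat.card SU6).factorization 3 = 7 := by
    rw [card_SU6, show (27590492160 : ℕ) = 3 ^ 7 * 12615680 from by norm_num,
      Nat.factorization_mul (by norm_num) (by norm_num), Finsupp.add_apply,
      Nat.Prime.factorization_pow (by norm_num), Finsupp.single_eq_same,
      Nat.factorization_eq_zero_of_not_dvd (by norm_num : ¬ 3 ∣ 12615680)]
  obtain ⟨P⟩ := (Sylow.nonempty : Nonempty (Sylow 3 H))
  have hPc : Nat.card ((P : Subgroup H).map H.subtype) = 3 ^ (Nat.card SU6).factorization 3 := by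
    rw [Subgroup.card_map_of_injective H.subtype_injective, P.card_eq_multiplicity, hfac, hfacH]
  let S0 : Sylow 3 SU6 := Sylow.ofCard SS (by rw [hfac, card_SS]; norm_num)
  obtain ⟨g, hg⟩ := MulAction.exists_smul_eq SU6 (Sylow.ofCard _ hPc) S0
  refine ⟨g, fun x hx => ?_⟩
  have hx' : x ∈ ((g • Sylow.ofCard _ hPc : Sylow 3 SU6) : Subgroup SU6) := by
    rw [hg, Sylow.coe_ofCard]
    exact hx
  rw [Sylow.smul_def, Sylow.pointwise_smul_def, Sylow.coe_ofCard] at hx'
  obtain ⟨y, ⟨z, -, rfl⟩, rfl⟩ := hx'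
  exact ⟨z, z.2, rfl⟩

theorem aligned_of {H : Subgroup SU6} (h : IsThreeU H) (hS : SS ≤ H) : Nonempty (Aligned H) := by
  haveI : Fact (Nat.Prime 3) := ⟨by norm_num⟩
  have hZ : Z6 ≤ H := (Z6_le_DD.trans DD_le_SS).trans hS
  have hcen : Subgroup.center H = Z6.subgroupOf H := by
    have hle : Z6.subgroupOf H ≤ Subgroup.center H := fun g hg => Subgroup.mem_center_iff.2 fun x =>
      Subtype.ext (Subgroup.mem_center_iff.1 (Subgroup.mem_subgroupOf.1 hg) (x : SU6))
    refine (Subgroup.eq_of_le_of_card_ge hle ?_).symm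
    rw [h.1, Nat.card_congr (Subgroup.subgroupOfEquivOfLe hZ).toEquiv, card_Z6]
  obtain ⟨φ⟩ := h.2
  let π0 : H →* Q9 := φ.toMonoidHom.comp (QuotientGroup.mk' _)
  have hs0 : Function.Surjective π0 := φ.surjective.comp (QuotientGroup.mk'_surjective _)
  obtain ⟨P, hP⟩ := card_sylow (card_threeU h) ((Nat.card_congr (Subgroup.subgroupOfEquivOfLe hS).toEquiv).trans card_SS)
  obtain ⟨P', hP'⟩ := card_sylow tripleKK.card
    ((Nat.card_congr (Subgroup.subgroupOfEquivOfLe (SS_le_MM.trans MM_le_KK)).toEquiv).trans card_SS)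
  obtain ⟨q, hq⟩ := MulAction.exists_smul_eq Q9 (P.mapSurjective hs0) (P'.mapSurjective tripleKK.surj)
  have hmap := congrArg (fun S : Sylow 3 Q9 => (S : Subgroup Q9)) hq
  simp only [Sylow.smul_def, Sylow.pointwise_smul_def, Sylow.coe_mapSurjective, hP, hP'] at hmap
  refine ⟨{ π := (MulAut.conj q).toMonoidHom.comp π0
            surj := (MulAut.conj q).surjective.comp hs0
            ker := fun g => ?_
            hZ := hZ
            hS := hS
            hSS := ?_ }⟩
  · show MulAut.conj q (φ (QuotientGroup.mk g)) = 1 ↔ _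
    rw [map_eq_one_iff _ (MulAut.conj q).injective, map_eq_one_iff _ φ.injective, QuotientGroup.eq_one_iff, hcen,
      Subgroup.mem_subgroupOf]
  · rw [← Subgroup.map_map]
    exact hmap

/-- Every subgroup of this shape is conjugate to one of the three. -/
theorem classify {H : Subgroup SU6} (h : IsThreeU H) : ∃ g k, H.map (MulAut.conj g).toMonoidHom = KT k := by
  obtain ⟨g, hg⟩ := exists_conj_SS h
  obtain ⟨T⟩ := aligned_of (isThreeU_map (MulAut.conj g) h) hg
  obtain ⟨k, hk⟩ := aligned_eq T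
  exact ⟨g, k, hk⟩

end Cfsg.UFourInUSix
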