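import Cfsg.Agent.USixTwoCover.Model

/-!
# Coded six by six matrices over the field with four elements
-/

set_option autoImplicit false
set_option maxRecDepth 20000

open Matrix

namespace Cfsg.UFourInUSix

open Cfsg.Lib.USixTwoCover (K dec mul4 sqr)

/-- The special unitary group. -/
abbrev SU6 : Type := ↥(Cfsg.SU 6 K 2)

/-- The matrix of an element. -/
def mt (g : SU6) : Matrix (Fin 6) (Fin 6) K := g.1.1

theorem mt_mul (g h : SU6) : mt (g * h) = mt g * mt h := rfl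

theorem mt_one : mt 1 = 1 := rfl

theorem mt_ext {g h : SU6} (e : mt g = mt h) : g = h := Subtype.ext (Subtype.ext e)

theorem mt_mul_inv (g : SU6) : mt g * mt g⁻¹ = 1 := by rw [← mt_mul, mul_inv_cancel, mt_one]

theorem mt_inv_mul (g : SU6) : mt g⁻¹ * mt g = 1 := by rw [← mt_mul, inv_mul_cancel, mt_one]

theorem mt_det (g : SU6) : (mt g).det = 1 := g.1.2

/-- An element from a unitary matrix of determinant one. -/
def mkSU (M : Matrix (Fin 6) (Fin 6) K) (hd : M.det = 1) (hu : Mᵀ * M.map sqr = 1) : SU6 :=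
  ⟨⟨M, hd⟩, fun u v => Cfsg.Lib.USixTwoCover.herm_preserved hu u v⟩

@[simp] theorem mt_mkSU (M : Matrix (Fin 6) (Fin 6) K) (hd : M.det = 1) (hu : Mᵀ * M.map sqr = 1) :
    mt (mkSU M hd hu) = M := rfl

/-- A coded matrix, by rows. -/
abbrev CMat : Type := List (List ℕ)

/-- An entry. -/
def ent (a : CMat) (i j : ℕ) : ℕ := (a.getD i []).getD j 0 % 4

theorem ent_lt (a : CMat) (i j : ℕ) : ent a i j < 4 := Nat.mod_lt _ (by norm_num)

/-- The matrix of a code. -/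
def dm (a : CMat) : Matrix (Fin 6) (Fin 6) K := Matrix.of fun i j => dec (ent a i.val j.val)

/-- An entry of a product. -/
def dot6 (a b : CMat) (i j : ℕ) : ℕ :=
  ((((mul4 (ent a i 0) (ent b 0 j) ^^^ mul4 (ent a i 1) (ent b 1 j)) ^^^ mul4 (ent a i 2) (ent b 2 j)) ^^^
    mul4 (ent a i 3) (ent b 3 j)) ^^^ mul4 (ent a i 4) (ent b 4 j)) ^^^ mul4 (ent a i 5) (ent b 5 j)

/-- The product of codes. -/
def cmul (a b : CMat) : CMat := (List.range 6).map fun i => (List.range 6).map fun j => dot6 a b i j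

theorem dot6_lt (a b : CMat) (i j : ℕ) : dot6 a b i j < 4 := by
  unfold dot6
  exact Cfsg.Lib.USixTwoCover.xor_lt (Cfsg.Lib.USixTwoCover.xor_lt (Cfsg.Lib.USixTwoCover.xor_lt
    (Cfsg.Lib.USixTwoCover.xor_lt (Cfsg.Lib.USixTwoCover.xor_lt (Cfsg.Lib.USixTwoCover.mul_lt _ _)
      (Cfsg.Lib.USixTwoCover.mul_lt _ _)) (Cfsg.Lib.USixTwoCover.mul_lt _ _)) (Cfsg.Lib.USixTwoCover.mul_lt _ _))
    (Cfsg.Lib.USixTwoCover.mul_lt _ _)) (Cfsg.Lib.USixTwoCover.mul_lt _ _)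

theorem ent_cmul (a b : CMat) {i j : ℕ} (hi : i < 6) (hj : j < 6) : ent (cmul a b) i j = dot6 a b i j := by
  simp [ent, cmul, List.getD_eq_getElem?_getD, hi, hj, Nat.mod_eq_of_lt (dot6_lt a b i j)]

theorem dm_cmul (a b : CMat) : dm (cmul a b) = dm a * dm b := by
  ext i j
  rw [Matrix.mul_apply, Fin.sum_univ_six]
  simp only [dm, Matrix.of_apply, ent_cmul a b i.isLt j.isLt, dot6]
  have hm := Cfsg.Lib.USixTwoCover.mul_lt
  have hx := @Cfsg.Lib.USixTwoCover.xor_lt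
  rw [Cfsg.Lib.USixTwoCover.dec_add (hx (hx (hx (hx (hm _ _) (hm _ _)) (hm _ _)) (hm _ _)) (hm _ _)) (hm _ _),
    Cfsg.Lib.USixTwoCover.dec_add (hx (hx (hx (hm _ _) (hm _ _)) (hm _ _)) (hm _ _)) (hm _ _),
    Cfsg.Lib.USixTwoCover.dec_add (hx (hx (hm _ _) (hm _ _)) (hm _ _)) (hm _ _),
    Cfsg.Lib.USixTwoCover.dec_add (hx (hm _ _) (hm _ _)) (hm _ _),
    Cfsg.Lib.USixTwoCover.dec_add (hm _ _) (hm _ _)]
  simp only [Cfsg.Lib.USixTwoCover.dec_mul (ent_lt _ _ _) (ent_lt _ _ _)]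
  rfl

/-- The identity code. -/
def cone : CMat := (List.range 6).map fun i => (List.range 6).map fun j => if Nat.beq i j then 1 else 0

theorem dm_cone : dm cone = 1 := by decide +kernel

/-- Equality of codes. -/
def ceq (a b : CMat) : Bool :=
  (List.range 6).all fun i => (List.range 6).all fun j => Nat.beq (ent a i j) (ent b i j)

theorem ceq_spec {a b : CMat} (h : ceq a b = true) : dm a = dm b := by
  ext i j
  simp only [dm, Matrix.of_apply]
  exact congrArg dec (Nat.eq_of_beq_eq_true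
    (List.all_eq_true.1 (List.all_eq_true.1 h i.val (List.mem_range.2 i.isLt)) j.val (List.mem_range.2 j.isLt)))

theorem dec_inj' {x y : ℕ} (hx : x < 4) (hy : y < 4) (h : dec x = dec y) : x = y :=
  congrArg Fin.val (Cfsg.Lib.USixTwoCover.dec_inj ⟨x, hx⟩ ⟨y, hy⟩ h)

theorem ceq_of_dm {a b : CMat} (h : dm a = dm b) : ceq a b = true := by
  refine List.all_eq_true.2 fun i hi => List.all_eq_true.2 fun j hj => ?_
  have e := congrFun (congrFun h ⟨i, List.mem_range.1 hi⟩) ⟨j, List.mem_range.1 hj⟩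
  rw [dec_inj' (ent_lt _ _ _) (ent_lt _ _ _) e]
  simp

/-- A product of codes. -/
def cprod : List CMat → CMat
  | [] => cone
  | a :: L => cmul a (cprod L)

theorem dm_cprod : ∀ L : List CMat, dm (cprod L) = (L.map dm).prod
  | [] => dm_cone
  | a :: L => by rw [cprod, dm_cmul, dm_cprod L, List.map_cons, List.prod_cons]

theorem mt_list_prod : ∀ L : List SU6, mt L.prod = (L.map mt).prod
  | [] => mt_one
  | a :: L => by rw [List.prod_cons, mt_mul, mt_list_prod L, List.map_cons, List.prod_cons]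

/-- An entry of the image of a vector. -/
def imgV (a : CMat) (c i : ℕ) : ℕ :=
  ((((mul4 (ent a i 0) (c % 4) ^^^ mul4 (ent a i 1) (c / 4 % 4)) ^^^ mul4 (ent a i 2) (c / 16 % 4)) ^^^
    mul4 (ent a i 3) (c / 64 % 4)) ^^^ mul4 (ent a i 4) (c / 256 % 4)) ^^^ mul4 (ent a i 5) (c / 1024 % 4)

/-- The image code of a vector. -/
def vimg (a : CMat) (c : ℕ) : ℕ :=
  imgV a c 0 + 4 * imgV a c 1 + 16 * imgV a c 2 + 64 * imgV a c 3 + 256 * imgV a c 4 + 1024 * imgV a c 5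

/-- The vector of a code. -/
def vdec (c : ℕ) : Fin 6 → K := fun i => dec (c / 4 ^ i.val % 4)

theorem imgV_lt (a : CMat) (c i : ℕ) : imgV a c i < 4 := by
  unfold imgV
  exact Cfsg.Lib.USixTwoCover.xor_lt (Cfsg.Lib.USixTwoCover.xor_lt (Cfsg.Lib.USixTwoCover.xor_lt
    (Cfsg.Lib.USixTwoCover.xor_lt (Cfsg.Lib.USixTwoCover.xor_lt (Cfsg.Lib.USixTwoCover.mul_lt _ _)
      (Cfsg.Lib.USixTwoCover.mul_lt _ _)) (Cfsg.Lib.USixTwoCover.mul_lt _ _)) (Cfsg.Lib.USixTwoCover.mul_lt _ _))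
    (Cfsg.Lib.USixTwoCover.mul_lt _ _)) (Cfsg.Lib.USixTwoCover.mul_lt _ _)

theorem vimg_digit (a : CMat) (c : ℕ) {i : ℕ} (hi : i < 6) : vimg a c / 4 ^ i % 4 = imgV a c i := by
  have h := imgV_lt a c
  have h0 := h 0; have h1 := h 1; have h2 := h 2; have h3 := h 3; have h4 := h 4; have h5 := h 5
  unfold vimg
  interval_cases i <;> norm_num <;> omega

theorem vimg_lt (a : CMat) (c : ℕ) : vimg a c < 4096 := by
  have h := imgV_lt a c
  have h0 := h 0; have h1 := h 1; have h2 := h 2; have h3 := h 3; have h4 := h 4; have h5 := h 5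
  unfold vimg
  omega

theorem vdec_vimg (a : CMat) (c : ℕ) : vdec (vimg a c) = dm a *ᵥ vdec c := by
  funext i
  have e := vimg_digit a c i.isLt
  rw [vdec, e]
  show _ = ∑ j : Fin 6, dec (ent a i.val j.val) * dec (c / 4 ^ j.val % 4)
  rw [Fin.sum_univ_six]
  simp only [imgV]
  have hm := Cfsg.Lib.USixTwoCover.mul_lt
  have hx := @Cfsg.Lib.USixTwoCover.xor_lt
  rw [Cfsg.Lib.USixTwoCover.dec_add (hx (hx (hx (hx (hm _ _) (hm _ _)) (hm _ _)) (hm _ _)) (hm _ _)) (hm _ _),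
    Cfsg.Lib.USixTwoCover.dec_add (hx (hx (hx (hm _ _) (hm _ _)) (hm _ _)) (hm _ _)) (hm _ _),
    Cfsg.Lib.USixTwoCover.dec_add (hx (hx (hm _ _) (hm _ _)) (hm _ _)) (hm _ _),
    Cfsg.Lib.USixTwoCover.dec_add (hx (hm _ _) (hm _ _)) (hm _ _),
    Cfsg.Lib.USixTwoCover.dec_add (hm _ _) (hm _ _)]
  simp only [Cfsg.Lib.USixTwoCover.dec_mul (ent_lt _ _ _) (Nat.mod_lt _ (by norm_num : 4 > 0))]
  norm_num

theorem vdec_eq_iff {a b : ℕ} (ha : a < 4096) (hb : b < 4096) (h : vdec a = vdec b) : a = b := by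
  have e : ∀ i : Fin 6, a / 4 ^ i.val % 4 = b / 4 ^ i.val % 4 := fun i =>
    dec_inj' (Nat.mod_lt _ (by norm_num)) (Nat.mod_lt _ (by norm_num)) (congrFun h i)
  have e0 := e 0; have e1 := e 1; have e2 := e 2; have e3 := e 3; have e4 := e 4; have e5 := e 5
  simp at e0 e1 e2 e3 e4 e5
  omega

end Cfsg.UFourInUSix
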