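/-!
Generated: the vectors, matrices and certificates for the subgroups of shape three times the unitary group in dimension
four over nine elements.
-/

set_option autoImplicit false
set_option maxRecDepth 20000

namespace Cfsg.UFourInUSix

/-- A monomial code: transpositions and exponents. -/
abbrev MCode : Type := List (Nat × Nat) × Nat

/-- The vectors. -/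
def vtab : Nat :=
  0xc4008c004800dad0b5b06f60fdb0ab6056d007000e000900c30082004100ddd0bbb06660fab0a5605fd095d07fb0ea6076b0ed609bd0034002c0018004400cc00880c04080c04080de90b97067e0f9f0a7a05e5096907d70ebe075f0efa09a509f907a70e5e07bf0e6a09d509ea07950e7f09de07b90e6709ae07590ef705ee0f990a7704030c02080106750def0b9a0083004200c10eb5096f07da0013003200210e5509ff07aa000b0006000d0e7909e7079e097507ef0e9a0df50baf065a06ae0d590bf70d650bdf06ba080804040c0c00c80084004c06de0db90b6700280014003c0a9e05790fe70d7d0beb0696081004300c2000d000b00060088004400cc00e7609ed079b04c00c80084000a0005000f004200c1008300f7b0ae6059d06ea0d950b7f001c003800240aaa05550fff008c004800c4040c0c0808040f570afe05a90ada05b50f6f0fb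70a6e05d907770eee0999030202010103066f0dda0bb50eaf095a07f506ff0daa0b5500090007000e0abf056a0fd50edf09ba07650a5f05fa0fa50104030c020806e70d9e0b790011003300220aa7055e0ff90081004300c204010c0308020f5a0af505af0ad705be0f690fba0a6505df077a0ee5099f0eeb0996077d0a6b05d60fbd0130032002100afb05a60f5d0f960a7d05eb07560efd09ab014003c0028007b60e6d09db0d000b0006000f000a00050009f607ad0e5b034002c00180096607dd0ebb0de60b9d067b06bd0d6b0bd6033002200110065d0dfb0ba60e9d097b07e6097e07e90e970dfe0ba9065706a50d5f0bfa0d6e0bd906b7080304020c0100c30082004106d50dbf0b6a0023001200310a95057f0fea0304020c010806690dd70bbe0ea9095707fe06f90da70b5e000f000a00050ab905670fde0ed909b7076e0a5905f70fae0102030102030f750aef059a069f0d7a0be506ab0d560bfd06db0db60b6d0a9b05760fed0b7606ed0d9b090007000e000ff60aad055b01c0038002400f660add05bb0120031002300f7e0ae90597010c0308020401010303020206990d770bee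

/-- The vectors as a set. -/
def vset : Nat :=
  0x824024804820000024804820824000004820824024800000000000000000000124804820824000004820824024800000824024804820000000000000000000014820824024800000824024804820000024804820824000000000000000000001000000000000000100000000000000010000000000000001000100010001111e248048208240000048208240248000008240248048200000000000000000000148208240248000008240248048200000248048208240000000000000000000018240248048200000248048208240000048208240248000000000000000000001000000000000000100000000000000010000000000000001000100010001111e482082402480000082402480482000002480482082400000000000000000000182402480482000002480482082400000482082402480000000000000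000000012480482082400000482082402480000082402480482000000000000000000001000000000000000100000000000000010000000000000001000100010001111e000000000000000100000000000000010000000000000001000100010001111e000000000000000100000000000000010000000000000001000100010001111e000000000000000100000000000000010000000000000001000100010001111e000100010001111e000100010001111e000100010001111e111e111e111eeee0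

/-- A basis among the vectors. -/
def brow : List Nat := [0, 3, 6, 12, 18, 24]

/-- The inverse of the basis. -/
def binv : List (List Nat) := [[1, 2, 3, 2, 1, 3], [2, 2, 3, 2, 1, 3], [3, 0, 2, 1, 3, 2], [3, 1, 0, 1, 3, 2], [3, 1, 2, 0, 3, 2], [3, 1, 2, 1, 3, 0]]

/-- The three matrices. -/
def gmat : List (List (List Nat)) := [[[0, 2, 3, 1, 2, 3], [3, 1, 0, 3, 1, 2], [2, 0, 1, 2, 3, 1], [1, 2, 3, 0, 2, 3], [3, 1, 2, 3, 0, 2], [2, 3, 1, 2, 3, 0]],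
  [[0, 3, 1, 3, 3, 1], [2, 0, 2, 1, 1, 2], [1, 3, 1, 3, 0, 1], [2, 1, 2, 0, 1, 2], [2, 1, 0, 1, 1, 2], [1, 3, 1, 3, 3, 0]],
  [[0, 1, 0, 0, 0, 0], [1, 0, 0, 0, 0, 0], [0, 0, 0, 2, 0, 0], [0, 0, 3, 0, 0, 0], [0, 0, 0, 0, 1, 0], [0, 0, 0, 0, 0, 1]]]

/-- Coset representatives in dimension three. -/
def rep3 : List (List (List Nat)) := [[[1, 0, 0], [0, 1, 0], [0, 0, 1]], [[1, 1, 1], [1, 2, 3], [1, 3, 2]], [[1, 1, 2], [1, 2, 1], [3, 2, 2]], [[1, 1, 3], [1, 2, 2], [2, 1, 2]]]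

/-- Words of the diagonal generators. -/
def dWords : List (List Nat) := [[1, 2, 0, 2, 1, 0, 2, 1, 0, 2, 1, 0, 2, 0, 2, 1, 0, 2, 0, 1, 2, 0, 1, 0, 2, 1, 0, 2, 0, 1, 2, 0, 2, 1, 0, 2, 1, 0, 2, 1, 0, 2, 0, 2, 1, 1, 2, 1, 0, 2, 0, 1, 2, 1, 1, 2, 0, 2, 1, 2, 0, 2, 1, 2, 0],
  [0, 2, 0, 2, 1, 2, 0, 2, 0, 0, 2, 0, 1, 2, 0, 2, 0, 1, 2, 1, 0, 2, 1, 1, 2, 1, 2, 0, 1, 2, 0, 1, 2, 0, 1, 0, 2, 1, 1, 2, 1, 2, 0, 1, 2, 0, 1, 2, 0, 1, 0, 2, 1, 0, 2, 0, 1, 0, 2, 1, 2, 0, 1, 0, 2, 0],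
  [2, 1, 2, 1, 2, 0, 1, 2, 0, 1, 2, 0, 1, 0, 2, 1, 0, 2, 0, 1, 0, 2, 1, 2, 0, 1, 0, 2, 0, 1, 2, 0, 2, 0, 1, 2, 0, 1, 2, 0, 1, 2, 0, 2, 1, 0, 2, 0, 1, 2, 0, 2, 0, 1, 2, 1, 0, 2, 1],
  [1, 2, 1, 2, 0, 1, 2, 0, 1, 2, 0, 1, 0, 2, 1, 0, 2, 0, 1, 0, 2, 1, 2, 0, 1, 0, 2, 0, 1, 2, 0, 2, 0, 1, 2, 0, 1, 2, 0, 1, 2, 0, 2, 1, 0, 2, 0, 1, 2, 0, 2, 0, 1, 2, 1, 0, 2, 1, 2],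
  [0, 2, 0, 1, 2, 0, 2, 0, 1, 2, 1, 0, 2, 1, 1, 2, 1, 2, 0, 1, 2, 0, 1, 2, 0, 1, 0, 2, 1, 1, 2, 1, 2, 0, 1, 2, 0, 1, 2, 0, 1, 0, 2, 1, 0, 2, 0, 1, 0, 2, 1, 2, 0, 1, 0, 2, 0, 0, 2, 0, 2, 1, 2, 0, 2, 0]]

/-- Words of the three-cycles. -/
def tWords : List (List Nat) := [[],
  [],
  [],
  [],
  [],
  [],
  [],
  [],
  [0, 1, 0, 1, 2, 0, 2, 0, 1, 2, 0, 1, 2, 0, 1, 2, 0, 2, 1, 1, 2, 0, 2, 0, 1, 2, 0, 1, 2, 0, 1, 2, 0, 2, 1, 0, 2, 1, 2, 0, 2, 1, 2, 0, 2, 1, 0, 2, 0, 1, 2, 0, 2, 0, 1, 2, 1, 0, 2, 1],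
  [1, 2, 0, 2, 1, 2, 0, 2, 1, 2, 0, 1, 2, 1, 2, 0, 1, 2, 0, 1, 2, 0, 1, 0, 2, 1, 1, 2, 0, 2, 1, 2, 0, 2, 1, 2, 0, 1, 2, 0, 2, 0, 1, 2, 0, 1, 2, 0, 1, 2, 0, 2, 1, 1, 2, 0, 2, 0, 1, 2, 0, 1, 2, 0, 1, 2, 0, 2, 1],
  [0, 1, 0, 0, 2, 0, 1, 2, 0, 1, 0, 2, 1, 0, 2, 0, 2, 1, 2, 1, 2, 0, 1, 2, 0, 1, 2, 0, 1, 0, 2, 1],
  [2, 1, 2, 0, 1, 2, 1, 0, 2, 0, 2, 1, 0, 2, 0, 0, 2, 0, 1, 0, 2, 1, 2, 0, 1, 0, 2, 0, 0, 2, 0, 2, 1, 2, 0, 2, 0, 1, 2, 0, 2, 1, 0, 2, 1, 0, 2, 1, 0, 2, 0, 2, 1],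
  [],
  [0, 1, 0, 1, 2, 0, 2, 0, 1, 2, 0, 1, 2, 0, 1, 2, 0, 2, 1, 0, 2, 0, 1, 2, 0, 2, 0, 1, 2, 1, 0, 2, 1, 1, 2, 1, 2, 0, 1, 2, 0, 1, 2, 0, 1, 0, 2, 1, 0, 2, 0, 1, 2, 0, 1, 0, 2, 1, 0, 2, 0],
  [],
  [2, 0, 1, 0, 0, 2, 0, 1, 0, 2, 1, 2, 0, 1, 0, 2, 0, 0, 1, 0, 0, 2, 0, 1, 2, 0, 1, 0, 2, 1, 0, 2, 0, 2],
  [0, 2, 1, 2, 0, 2, 1, 2, 0, 2, 1, 1, 2, 1, 0, 2, 0, 1, 2, 1, 0, 2, 0, 1, 2, 0, 1, 0, 2, 1, 0, 2, 0, 0, 2, 0, 1, 0, 2, 1, 2, 0, 1, 0, 2, 0, 0, 2, 1, 2, 0, 2, 1, 2, 0, 2, 1],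
  [2, 0, 1, 0, 1, 2, 0, 2, 0, 1, 2, 0, 1, 2, 0, 1, 2, 0, 2, 1, 0, 2, 0, 1, 0, 2, 1, 2, 0, 1, 0, 2, 0, 0, 2, 0, 1, 2, 0, 2, 0, 1, 2, 1, 0, 2, 1],
  [],
  [1, 2, 1, 2, 0, 1, 2, 0, 1, 2, 0, 1, 0, 2, 1, 1, 2, 1, 2, 0, 1, 2, 0, 1, 2, 0, 1, 0, 2, 1, 0, 2, 1, 2, 0, 2, 1, 2, 0, 2, 1, 1, 2, 0, 2, 0, 1, 2, 0, 1, 2, 0, 1, 2, 0, 2, 1, 0, 2, 1, 2, 0, 2, 1, 2, 0, 2, 1],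
  [2, 1, 2, 1, 0, 2, 0, 1, 2, 1, 0, 2, 0, 1, 2, 0, 1, 0, 2, 1, 0, 2, 0, 1, 2, 0, 2, 1, 2, 0, 2, 1, 2, 0, 0, 2, 0, 2, 1, 2, 0, 2, 0, 1, 2, 0, 1, 0, 2, 1, 0, 2, 1, 0, 2, 1, 2, 1],
  [],
  [2, 1, 2, 0, 2, 1, 0, 2, 1, 0, 2, 1, 0, 2, 0, 2, 1, 0, 2, 0, 1, 2, 0, 1, 0, 2, 1, 0, 2, 0, 2, 1, 2, 0, 1, 2, 1, 0, 2, 0, 2, 1, 0, 2, 0],
  [1, 2, 1, 0, 2, 0, 1, 2, 1, 1, 2, 0, 2, 1, 2, 0, 2, 1, 2, 0, 1, 2, 0, 2, 1, 2, 0, 2, 1, 2, 0, 0, 2, 0, 1, 0, 2, 1, 2, 0, 1, 0, 2, 0, 0, 2, 0, 1, 2, 0, 1, 0, 2, 1, 0, 2, 0],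
  [],
  [1, 2, 0, 1, 0, 2, 1, 0, 2, 1, 0, 2, 1, 2, 1, 2, 0, 2, 0, 1, 2, 0, 1, 0, 2, 1, 0, 2, 0, 0, 1, 0],
  [1, 2, 1, 0, 2, 0, 1, 2, 1, 0, 1, 0, 0, 2, 0, 2, 1, 2, 0, 2, 0, 1, 2, 0, 2, 0, 1, 2, 0, 1, 2, 0, 1, 2, 0, 2, 1, 0, 2, 0, 1, 0, 2, 1, 2, 0, 1, 0, 2, 0],
  [0, 2, 0, 1, 0, 2, 1, 2, 0, 1, 0, 2, 0, 2, 1, 2, 0, 1, 0, 2, 1, 0, 2, 1, 0, 2, 1, 2, 1, 2, 0, 1, 0],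
  [],
  [0, 1, 0, 2, 1, 2, 0, 1, 2, 1, 0, 2, 0, 2, 1, 0, 2, 0, 0, 2, 0, 1, 0, 2, 1, 2, 0, 1, 0, 2, 0, 1, 2, 0, 2, 1, 0, 2, 1, 0, 2, 1, 0, 2, 0, 2, 1],
  [],
  [0, 1, 0, 1, 2, 1, 0, 2, 0, 1, 2, 1, 0, 2, 0, 1, 2, 0, 1, 0, 2, 1, 0, 2, 0, 1, 2, 0, 2, 1, 2, 0, 2, 1, 2, 0, 0, 2, 0, 2, 1, 2, 0, 2, 0],
  [0, 2, 0, 1, 2, 0, 1, 0, 2, 1, 0, 2, 0, 0, 2, 1, 2, 0, 2, 1, 2, 0, 2, 1, 1, 2, 0, 2, 1, 0, 2, 1, 0, 2, 1, 0, 2, 0, 2, 1, 1, 2, 0, 1, 2, 1, 0, 2, 0, 2, 1, 0, 2, 0, 0, 1, 0],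
  [2, 1, 2, 0, 2, 1, 2, 0, 2, 1, 2, 0, 1, 2, 0, 1, 2, 1, 0, 2, 0, 2, 1, 0, 2, 0, 1, 2, 1, 2, 0, 1, 2, 0, 1, 2, 0, 1, 0, 2, 1, 0, 2, 0, 1, 0, 2, 1, 2, 0, 1, 0, 2, 0],
  [2, 1, 2, 0, 1, 2, 1, 0, 2, 0, 2, 1, 0, 2, 0, 0, 2, 0, 1, 2, 0, 1, 0, 2, 1, 0, 2, 0, 0, 2, 0, 1, 2, 0, 2, 0, 1, 2, 1, 0, 2, 1, 1, 2, 1, 2, 0, 1, 2, 0, 1, 2, 0, 1, 0, 2, 1],
  [],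
  [],
  [],
  [0, 1, 0, 1, 2, 0, 2, 0, 1, 2, 0, 1, 2, 0, 1, 2, 0, 2, 1, 0, 2, 0, 1, 2, 0, 2, 0, 1, 2, 1, 0, 2, 1, 1, 2, 1, 2, 0, 1, 2, 0, 1, 2, 0, 1, 0, 2, 1, 0, 2, 0, 1, 2, 0, 1, 0, 2, 1, 0, 2, 0],
  [1, 2, 1, 2, 0, 1, 2, 0, 1, 2, 0, 1, 0, 2, 1, 1, 2, 1, 2, 0, 1, 2, 0, 1, 2, 0, 1, 0, 2, 1, 0, 2, 1, 2, 0, 2, 1, 2, 0, 2, 1, 1, 2, 0, 2, 0, 1, 2, 0, 1, 2, 0, 1, 2, 0, 2, 1, 0, 2, 1, 2, 0, 2, 1, 2, 0, 2, 1],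
  [1, 2, 0, 1, 0, 2, 1, 0, 2, 1, 0, 2, 1, 2, 1, 2, 0, 2, 0, 1, 2, 0, 1, 0, 2, 1, 0, 2, 0, 0, 1, 0],
  [0, 1, 0, 1, 2, 1, 0, 2, 0, 1, 2, 1, 0, 2, 0, 1, 2, 0, 1, 0, 2, 1, 0, 2, 0, 1, 2, 0, 2, 1, 2, 0, 2, 1, 2, 0, 0, 2, 0, 2, 1, 2, 0, 2, 0],
  [],
  [],
  [],
  [],
  [],
  [],
  [0, 1, 0, 1, 2, 0, 2, 0, 1, 2, 0, 1, 2, 0, 1, 2, 0, 2, 1, 1, 2, 0, 2, 0, 1, 2, 0, 1, 2, 0, 1, 2, 0, 2, 1, 0, 2, 1, 2, 0, 2, 1, 2, 0, 2, 1, 0, 2, 0, 1, 2, 0, 2, 0, 1, 2, 1, 0, 2, 1],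
  [],
  [],
  [0, 1, 0, 1, 2, 0, 1, 0, 2, 1, 0, 2, 1, 0, 2, 1, 2, 1, 0, 2, 0, 1, 0, 2, 1, 2, 0, 1, 0, 2, 0, 1, 2, 1, 2, 0, 1, 2, 0, 1, 2, 0, 1, 0, 2, 1, 0, 2, 0, 2, 1, 2, 0, 2, 0],
  [1, 2, 0, 1, 0, 2, 1, 0, 2, 1, 0, 2, 1, 2, 1, 0, 2, 0, 1, 0, 2, 1, 2, 0, 1, 0, 2, 0, 1, 2, 1, 2, 0, 1, 2, 0, 1, 2, 0, 1, 0, 2, 1, 0, 1, 0],
  [2, 0, 2, 0, 1, 2, 0, 1, 0, 2, 1, 0, 2, 0, 1, 2, 0, 1, 0, 2, 1, 0, 2, 1, 0, 2, 1, 2, 1],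
  [1, 2, 0, 2, 1, 2, 0, 2, 1, 2, 0, 1, 2, 1, 2, 0, 1, 2, 0, 1, 2, 0, 1, 0, 2, 1, 1, 2, 0, 2, 1, 2, 0, 2, 1, 2, 0, 1, 2, 0, 2, 0, 1, 2, 0, 1, 2, 0, 1, 2, 0, 2, 1, 1, 2, 0, 2, 0, 1, 2, 0, 1, 2, 0, 1, 2, 0, 2, 1],
  [],
  [0, 2, 0, 2, 1, 2, 0, 2, 0, 1, 2, 0, 1, 0, 2, 1, 0, 2, 1, 0, 2, 1, 2, 1, 0, 2, 0, 1, 0, 2, 1, 2, 0, 1, 0, 2, 0, 1, 2, 1, 2, 0, 1, 2, 0, 1, 2, 0, 1, 0, 2, 1, 0, 1, 0],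
  [],
  [2, 1, 2, 1, 2, 0, 1, 2, 0, 1, 2, 0, 1, 0, 2, 1, 0, 2, 1, 2, 0, 2, 1, 2, 0, 2, 1, 0, 2, 0, 1, 2, 0, 2, 0, 1, 2, 1, 0, 2, 1, 1, 2, 0, 2, 0, 1, 2, 0, 1, 2, 0, 1, 2, 0, 2, 1],
  [0, 2, 0, 1, 0, 2, 1, 2, 0, 1, 0, 2, 0, 0, 2, 0, 1, 2, 0, 1, 0, 2, 1, 0, 2, 0, 2, 0, 2, 0, 1, 2, 0, 1, 0, 2, 1, 0, 2, 0],
  [0, 1, 0, 0, 2, 0, 1, 2, 0, 1, 0, 2, 1, 0, 2, 0, 2, 1, 2, 1, 2, 0, 1, 2, 0, 1, 2, 0, 1, 0, 2, 1],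
  [],
  [0, 1, 0, 1, 2, 0, 1, 0, 2, 1, 0, 2, 1, 0, 2, 1, 2, 1, 0, 2, 0, 1, 0, 2, 1, 2, 0, 1, 0, 2, 0, 1, 2, 1, 2, 0, 1, 2, 0, 1, 2, 0, 1, 0, 2, 1],
  [1, 2, 0, 2, 1, 0, 2, 1, 0, 2, 1, 0, 2, 0, 2, 1, 1, 2, 0, 1, 2, 1, 0, 2, 0, 2, 1, 0, 2, 0, 1, 2, 0, 2, 1, 2, 0, 2, 1, 2, 0, 1, 2, 0, 1, 0, 2, 1, 0, 2, 1, 0, 2, 1, 2, 1, 2],
  [],
  [1, 2, 1, 2, 0, 1, 2, 0, 1, 2, 0, 1, 0, 2, 1, 0, 1, 0, 1, 2, 0, 1, 0, 2, 1, 0, 2, 1, 0, 2, 1, 2, 1, 0, 2, 0, 2, 1, 2, 0, 2, 0],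
  [2, 1, 2, 0, 1, 2, 1, 0, 2, 0, 2, 1, 0, 2, 0, 0, 2, 0, 1, 0, 2, 1, 2, 0, 1, 0, 2, 0, 0, 2, 0, 2, 1, 2, 0, 2, 0, 1, 2, 0, 2, 1, 0, 2, 1, 0, 2, 1, 0, 2, 0, 2, 1],
  [],
  [1, 2, 1, 2, 0, 1, 2, 0, 1, 2, 0, 1, 0, 2, 1, 0, 2, 0, 1, 2, 0, 1, 0, 2, 1, 0, 2, 0, 2],
  [0, 2, 0, 1, 2, 0, 1, 0, 2, 1, 0, 2, 0, 2, 0, 2, 0, 1, 2, 0, 1, 0, 2, 1, 0, 2, 0, 0, 2, 0, 1, 0, 2, 1, 2, 0, 1, 0, 2, 0],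
  [0, 2, 0, 2, 1, 2, 0, 2, 0, 1, 2, 1, 2, 0, 1, 2, 0, 1, 2, 0, 1, 0, 2, 1, 0, 1, 0, 1, 2, 0, 1, 0, 2, 1, 0, 2, 1, 0, 2, 1, 2, 1],
  [],
  [],
  [0, 1, 0, 1, 2, 0, 2, 0, 1, 2, 0, 1, 2, 0, 1, 2, 0, 2, 1, 1, 2, 0, 2, 0, 1, 2, 0, 1, 2, 0, 1, 2, 0, 2, 1, 0, 2, 1, 2, 0, 2, 1, 2, 0, 2, 1, 0, 2, 0, 1, 2, 0, 2, 0, 1, 2, 1, 0, 2, 1],
  [],
  [2, 1, 2, 1, 0, 2, 0, 1, 2, 1, 0, 2, 0, 1, 2, 0, 1, 0, 2, 1, 0, 2, 0, 1, 2, 0, 2, 1, 2, 0, 2, 1, 2, 0, 0, 2, 0, 2, 1, 2, 0, 2, 0, 1, 2, 0, 1, 0, 2, 1, 0, 2, 1, 0, 2, 1, 2, 1],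
  [1, 2, 1, 0, 2, 0, 1, 2, 1, 0, 1, 0, 0, 2, 0, 2, 1, 2, 0, 2, 0, 1, 2, 0, 2, 0, 1, 2, 0, 1, 2, 0, 1, 2, 0, 2, 1, 0, 2, 0, 1, 0, 2, 1, 2, 0, 1, 0, 2, 0],
  [0, 2, 0, 1, 2, 0, 1, 0, 2, 1, 0, 2, 0, 0, 2, 1, 2, 0, 2, 1, 2, 0, 2, 1, 1, 2, 0, 2, 1, 0, 2, 1, 0, 2, 1, 0, 2, 0, 2, 1, 1, 2, 0, 1, 2, 1, 0, 2, 0, 2, 1, 0, 2, 0, 0, 1, 0],
  [0, 1, 0, 1, 2, 0, 2, 0, 1, 2, 0, 1, 2, 0, 1, 2, 0, 2, 1, 0, 2, 0, 1, 2, 0, 2, 0, 1, 2, 1, 0, 2, 1, 1, 2, 1, 2, 0, 1, 2, 0, 1, 2, 0, 1, 0, 2, 1, 0, 2, 0, 1, 2, 0, 1, 0, 2, 1, 0, 2, 0],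
  [],
  [],
  [0, 2, 0, 2, 1, 2, 0, 2, 0, 1, 2, 0, 1, 0, 2, 1, 0, 2, 1, 0, 2, 1, 2, 1, 0, 2, 0, 1, 0, 2, 1, 2, 0, 1, 0, 2, 0, 1, 2, 1, 2, 0, 1, 2, 0, 1, 2, 0, 1, 0, 2, 1, 0, 1, 0],
  [0, 1, 0, 1, 2, 0, 1, 0, 2, 1, 0, 2, 1, 0, 2, 1, 2, 1, 0, 2, 0, 1, 0, 2, 1, 2, 0, 1, 0, 2, 0, 1, 2, 1, 2, 0, 1, 2, 0, 1, 2, 0, 1, 0, 2, 1],
  [1, 2, 1, 2, 0, 1, 2, 0, 1, 2, 0, 1, 0, 2, 1, 0, 2, 0, 1, 2, 0, 1, 0, 2, 1, 0, 2, 0, 2],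
  [],
  [],
  [],
  [],
  [],
  [],
  [2, 0, 1, 0, 0, 2, 0, 1, 0, 2, 1, 2, 0, 1, 0, 2, 0, 0, 1, 0, 0, 2, 0, 1, 2, 0, 1, 0, 2, 1, 0, 2, 0, 2],
  [0, 1, 0, 1, 2, 0, 1, 0, 2, 1, 0, 2, 1, 0, 2, 1, 2, 1, 0, 2, 0, 1, 0, 2, 1, 2, 0, 1, 0, 2, 0, 1, 2, 1, 2, 0, 1, 2, 0, 1, 2, 0, 1, 0, 2, 1, 0, 2, 0, 2, 1, 2, 0, 2, 0],
  [],
  [],
  [0, 1, 0, 1, 2, 1, 0, 2, 0, 1, 2, 1, 0, 1, 0, 0, 2, 1, 2, 0, 2, 1, 2, 0, 2, 1, 1, 2, 0, 2, 0, 1, 2, 0, 1, 2, 0, 1, 2, 0, 2, 1],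
  [2, 0, 2, 0, 1, 2, 0, 1, 0, 2, 1, 0, 2, 0, 0, 1, 0, 1, 2, 0, 1, 0, 2, 1, 0, 2, 1, 0, 2, 1, 2, 1],
  [0, 2, 1, 2, 0, 2, 1, 2, 0, 2, 1, 1, 2, 1, 0, 2, 0, 1, 2, 1, 0, 2, 0, 1, 2, 0, 1, 0, 2, 1, 0, 2, 0, 0, 2, 0, 1, 0, 2, 1, 2, 0, 1, 0, 2, 0, 0, 2, 1, 2, 0, 2, 1, 2, 0, 2, 1],
  [1, 2, 0, 1, 0, 2, 1, 0, 2, 1, 0, 2, 1, 2, 1, 0, 2, 0, 1, 0, 2, 1, 2, 0, 1, 0, 2, 0, 1, 2, 1, 2, 0, 1, 2, 0, 1, 2, 0, 1, 0, 2, 1, 0, 1, 0],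
  [],
  [0, 2, 0, 2, 1, 2, 0, 2, 0, 0, 1, 0, 1, 2, 0, 1, 0, 2, 1, 0, 2, 1, 0, 2, 1, 2, 1, 0, 2, 0, 1, 0, 2, 1, 2, 0, 1, 0, 2, 0, 1, 2, 1, 2, 0, 1, 2, 0, 1, 2, 0, 1, 0, 2, 1],
  [],
  [0, 1, 0, 1, 2, 1, 2, 0, 1, 2, 0, 1, 2, 0, 1, 0, 2, 1, 0, 2, 0, 1, 2, 0, 1, 0, 2, 1, 0, 2, 0, 2, 0, 1, 0],
  [2, 0, 1, 0, 1, 2, 0, 2, 0, 1, 2, 0, 1, 2, 0, 1, 2, 0, 2, 1, 0, 2, 0, 1, 0, 2, 1, 2, 0, 1, 0, 2, 0, 0, 2, 0, 1, 2, 0, 2, 0, 1, 2, 1, 0, 2, 1],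
  [2, 0, 2, 0, 1, 2, 0, 1, 0, 2, 1, 0, 2, 0, 1, 2, 0, 1, 0, 2, 1, 0, 2, 1, 0, 2, 1, 2, 1],
  [],
  [1, 2, 1, 2, 0, 1, 2, 0, 1, 2, 0, 1, 0, 2, 1, 0, 1, 0, 0, 2, 0, 1, 2, 0, 1, 0, 2, 1, 0, 2, 0, 2],
  [0, 1, 0, 2, 0, 2, 0, 1, 2, 0, 1, 0, 2, 1, 0, 2, 0, 1, 2, 0, 1, 0, 2, 1, 0, 2, 1, 0, 2, 1, 2, 1, 0, 1, 0],
  [],
  [],
  [1, 2, 0, 2, 1, 2, 0, 2, 1, 2, 0, 1, 2, 1, 2, 0, 1, 2, 0, 1, 2, 0, 1, 0, 2, 1, 1, 2, 0, 2, 1, 2, 0, 2, 1, 2, 0, 1, 2, 0, 2, 0, 1, 2, 0, 1, 2, 0, 1, 2, 0, 2, 1, 1, 2, 0, 2, 0, 1, 2, 0, 1, 2, 0, 1, 2, 0, 2, 1],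
  [2, 0, 1, 0, 0, 2, 0, 1, 0, 2, 1, 2, 0, 1, 0, 2, 0, 0, 1, 0, 0, 2, 0, 1, 2, 0, 1, 0, 2, 1, 0, 2, 0, 2],
  [],
  [0, 2, 0, 1, 0, 2, 1, 2, 0, 1, 0, 2, 0, 2, 1, 2, 0, 1, 0, 2, 1, 0, 2, 1, 0, 2, 1, 2, 1, 2, 0, 1, 0],
  [2, 1, 2, 0, 2, 1, 2, 0, 2, 1, 2, 0, 1, 2, 0, 1, 2, 1, 0, 2, 0, 2, 1, 0, 2, 0, 1, 2, 1, 2, 0, 1, 2, 0, 1, 2, 0, 1, 0, 2, 1, 0, 2, 0, 1, 0, 2, 1, 2, 0, 1, 0, 2, 0],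
  [1, 2, 1, 2, 0, 1, 2, 0, 1, 2, 0, 1, 0, 2, 1, 1, 2, 1, 2, 0, 1, 2, 0, 1, 2, 0, 1, 0, 2, 1, 0, 2, 1, 2, 0, 2, 1, 2, 0, 2, 1, 1, 2, 0, 2, 0, 1, 2, 0, 1, 2, 0, 1, 2, 0, 2, 1, 0, 2, 1, 2, 0, 2, 1, 2, 0, 2, 1],
  [],
  [0, 1, 0, 1, 2, 0, 1, 0, 2, 1, 0, 2, 1, 0, 2, 1, 2, 1, 0, 2, 0, 1, 0, 2, 1, 2, 0, 1, 0, 2, 0, 1, 2, 1, 2, 0, 1, 2, 0, 1, 2, 0, 1, 0, 2, 1, 0, 2, 0, 2, 1, 2, 0, 2, 0],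
  [],
  [1, 2, 0, 2, 1, 0, 2, 1, 0, 2, 1, 0, 2, 0, 2, 1, 1, 2, 0, 1, 2, 1, 0, 2, 0, 2, 1, 0, 2, 0, 1, 2, 0, 2, 1, 2, 0, 2, 1, 2, 0, 1, 2, 0, 1, 0, 2, 1, 0, 2, 1, 0, 2, 1, 2, 1, 2],
  [0, 2, 0, 1, 2, 0, 1, 0, 2, 1, 0, 2, 0, 2, 0, 2, 0, 1, 2, 0, 1, 0, 2, 1, 0, 2, 0, 0, 2, 0, 1, 0, 2, 1, 2, 0, 1, 0, 2, 0],
  [2, 1, 2, 1, 0, 2, 0, 1, 2, 1, 0, 2, 0, 1, 2, 0, 1, 0, 2, 1, 0, 2, 0, 1, 2, 0, 2, 1, 2, 0, 2, 1, 2, 0, 0, 2, 0, 2, 1, 2, 0, 2, 0, 1, 2, 0, 1, 0, 2, 1, 0, 2, 1, 0, 2, 1, 2, 1],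
  [0, 2, 0, 2, 1, 2, 0, 2, 0, 1, 2, 0, 1, 0, 2, 1, 0, 2, 1, 0, 2, 1, 2, 1, 0, 2, 0, 1, 0, 2, 1, 2, 0, 1, 0, 2, 0, 1, 2, 1, 2, 0, 1, 2, 0, 1, 2, 0, 1, 0, 2, 1, 0, 1, 0],
  [],
  [],
  [0, 2, 0, 2, 1, 2, 0, 2, 0, 0, 1, 0, 1, 2, 0, 1, 0, 2, 1, 0, 2, 1, 0, 2, 1, 2, 1, 0, 2, 0, 1, 0, 2, 1, 2, 0, 1, 0, 2, 0, 1, 2, 1, 2, 0, 1, 2, 0, 1, 2, 0, 1, 0, 2, 1],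
  [1, 2, 1, 2, 0, 1, 2, 0, 1, 2, 0, 1, 0, 2, 1, 0, 1, 0, 0, 2, 0, 1, 2, 0, 1, 0, 2, 1, 0, 2, 0, 2],
  [],
  [],
  [],
  [],
  [],
  [],
  [2, 1, 2, 0, 2, 1, 0, 2, 1, 0, 2, 1, 0, 2, 0, 2, 1, 0, 2, 0, 1, 2, 0, 1, 0, 2, 1, 0, 2, 0, 2, 1, 2, 0, 1, 2, 1, 0, 2, 0, 2, 1, 0, 2, 0],
  [2, 1, 2, 1, 2, 0, 1, 2, 0, 1, 2, 0, 1, 0, 2, 1, 0, 2, 1, 2, 0, 2, 1, 2, 0, 2, 1, 0, 2, 0, 1, 2, 0, 2, 0, 1, 2, 1, 0, 2, 1, 1, 2, 0, 2, 0, 1, 2, 0, 1, 2, 0, 1, 2, 0, 2, 1],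
  [0, 1, 0, 1, 2, 1, 0, 2, 0, 1, 2, 1, 0, 1, 0, 0, 2, 1, 2, 0, 2, 1, 2, 0, 2, 1, 1, 2, 0, 2, 0, 1, 2, 0, 1, 2, 0, 1, 2, 0, 2, 1],
  [],
  [],
  [0, 2, 0, 2, 1, 2, 0, 2, 0, 1, 2, 1, 2, 0, 1, 2, 0, 1, 2, 0, 1, 0, 2, 1, 0, 2, 0, 1, 2, 0, 1, 0, 2, 1, 0, 2, 0, 2, 0, 2, 0, 2, 1, 2, 0, 2, 0],
  [1, 2, 1, 0, 2, 0, 1, 2, 1, 1, 2, 0, 2, 1, 2, 0, 2, 1, 2, 0, 1, 2, 0, 2, 1, 2, 0, 2, 1, 2, 0, 0, 2, 0, 1, 0, 2, 1, 2, 0, 1, 0, 2, 0, 0, 2, 0, 1, 2, 0, 1, 0, 2, 1, 0, 2, 0],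
  [0, 2, 0, 1, 0, 2, 1, 2, 0, 1, 0, 2, 0, 0, 2, 0, 1, 2, 0, 1, 0, 2, 1, 0, 2, 0, 2, 0, 2, 0, 1, 2, 0, 1, 0, 2, 1, 0, 2, 0],
  [2, 0, 2, 0, 1, 2, 0, 1, 0, 2, 1, 0, 2, 0, 0, 1, 0, 1, 2, 0, 1, 0, 2, 1, 0, 2, 1, 0, 2, 1, 2, 1],
  [],
  [0, 2, 0, 2, 1, 2, 0, 2, 0, 2, 0, 2, 0, 1, 2, 0, 1, 0, 2, 1, 0, 2, 0, 1, 2, 0, 1, 0, 2, 1, 0, 2, 1, 0, 2, 1, 2, 1, 0, 2, 0, 2, 1, 2, 0, 2, 0],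
  [],
  [],
  [0, 1, 0, 0, 2, 0, 1, 2, 0, 1, 0, 2, 1, 0, 2, 0, 2, 1, 2, 1, 2, 0, 1, 2, 0, 1, 2, 0, 1, 0, 2, 1],
  [0, 2, 1, 2, 0, 2, 1, 2, 0, 2, 1, 1, 2, 1, 0, 2, 0, 1, 2, 1, 0, 2, 0, 1, 2, 0, 1, 0, 2, 1, 0, 2, 0, 0, 2, 0, 1, 0, 2, 1, 2, 0, 1, 0, 2, 0, 0, 2, 1, 2, 0, 2, 1, 2, 0, 2, 1],
  [2, 1, 2, 0, 2, 1, 0, 2, 1, 0, 2, 1, 0, 2, 0, 2, 1, 0, 2, 0, 1, 2, 0, 1, 0, 2, 1, 0, 2, 0, 2, 1, 2, 0, 1, 2, 1, 0, 2, 0, 2, 1, 0, 2, 0],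
  [],
  [2, 1, 2, 0, 1, 2, 1, 0, 2, 0, 2, 1, 0, 2, 0, 0, 2, 0, 1, 2, 0, 1, 0, 2, 1, 0, 2, 0, 0, 2, 0, 1, 2, 0, 2, 0, 1, 2, 1, 0, 2, 1, 1, 2, 1, 2, 0, 1, 2, 0, 1, 2, 0, 1, 0, 2, 1],
  [1, 2, 0, 1, 0, 2, 1, 0, 2, 1, 0, 2, 1, 2, 1, 2, 0, 2, 0, 1, 2, 0, 1, 0, 2, 1, 0, 2, 0, 0, 1, 0],
  [],
  [1, 2, 0, 1, 0, 2, 1, 0, 2, 1, 0, 2, 1, 2, 1, 0, 2, 0, 1, 0, 2, 1, 2, 0, 1, 0, 2, 0, 1, 2, 1, 2, 0, 1, 2, 0, 1, 2, 0, 1, 0, 2, 1, 0, 1, 0],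
  [2, 1, 2, 1, 2, 0, 1, 2, 0, 1, 2, 0, 1, 0, 2, 1, 0, 2, 1, 2, 0, 2, 1, 2, 0, 2, 1, 0, 2, 0, 1, 2, 0, 2, 0, 1, 2, 1, 0, 2, 1, 1, 2, 0, 2, 0, 1, 2, 0, 1, 2, 0, 1, 2, 0, 2, 1],
  [],
  [0, 2, 0, 2, 1, 2, 0, 2, 0, 1, 2, 1, 2, 0, 1, 2, 0, 1, 2, 0, 1, 0, 2, 1, 0, 1, 0, 1, 2, 0, 1, 0, 2, 1, 0, 2, 1, 0, 2, 1, 2, 1],
  [1, 2, 1, 0, 2, 0, 1, 2, 1, 0, 1, 0, 0, 2, 0, 2, 1, 2, 0, 2, 0, 1, 2, 0, 2, 0, 1, 2, 0, 1, 2, 0, 1, 2, 0, 2, 1, 0, 2, 0, 1, 0, 2, 1, 2, 0, 1, 0, 2, 0],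
  [0, 1, 0, 1, 2, 0, 1, 0, 2, 1, 0, 2, 1, 0, 2, 1, 2, 1, 0, 2, 0, 1, 0, 2, 1, 2, 0, 1, 0, 2, 0, 1, 2, 1, 2, 0, 1, 2, 0, 1, 2, 0, 1, 0, 2, 1],
  [],
  [0, 1, 0, 1, 2, 1, 0, 2, 0, 1, 2, 1, 0, 1, 0, 0, 2, 1, 2, 0, 2, 1, 2, 0, 2, 1, 1, 2, 0, 2, 0, 1, 2, 0, 1, 2, 0, 1, 2, 0, 2, 1],
  [],
  [0, 1, 0, 2, 0, 2, 0, 1, 2, 0, 1, 0, 2, 1, 0, 2, 0, 1, 2, 0, 1, 0, 2, 1, 0, 2, 1, 0, 2, 1, 2, 1, 0, 1, 0],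
  [0, 2, 0, 1, 0, 2, 1, 2, 0, 1, 0, 2, 0, 2, 1, 2, 0, 1, 0, 2, 1, 0, 2, 1, 0, 2, 1, 2, 1, 2, 0, 1, 0],
  [1, 2, 0, 2, 1, 0, 2, 1, 0, 2, 1, 0, 2, 0, 2, 1, 1, 2, 0, 1, 2, 1, 0, 2, 0, 2, 1, 0, 2, 0, 1, 2, 0, 2, 1, 2, 0, 2, 1, 2, 0, 1, 2, 0, 1, 0, 2, 1, 0, 2, 1, 0, 2, 1, 2, 1, 2],
  [0, 2, 0, 2, 1, 2, 0, 2, 0, 0, 1, 0, 1, 2, 0, 1, 0, 2, 1, 0, 2, 1, 0, 2, 1, 2, 1, 0, 2, 0, 1, 0, 2, 1, 2, 0, 1, 0, 2, 0, 1, 2, 1, 2, 0, 1, 2, 0, 1, 2, 0, 1, 0, 2, 1],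
  [],
  [],
  [0, 2, 0, 2, 1, 2, 0, 2, 0, 2, 0, 2, 0, 1, 2, 0, 1, 0, 2, 1, 0, 2, 0, 1, 2, 0, 1, 0, 2, 1, 0, 2, 1, 0, 2, 1, 2, 1, 0, 2, 0, 2, 1, 2, 0, 2, 0],
  [],
  [],
  [],
  [],
  [],
  [],
  [0, 1, 0, 2, 1, 2, 0, 1, 2, 1, 0, 2, 0, 2, 1, 0, 2, 0, 0, 2, 0, 1, 0, 2, 1, 2, 0, 1, 0, 2, 0, 1, 2, 0, 2, 1, 0, 2, 1, 0, 2, 1, 0, 2, 0, 2, 1],
  [1, 2, 1, 2, 0, 1, 2, 0, 1, 2, 0, 1, 0, 2, 1, 0, 1, 0, 1, 2, 0, 1, 0, 2, 1, 0, 2, 1, 0, 2, 1, 2, 1, 0, 2, 0, 2, 1, 2, 0, 2, 0],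
  [0, 1, 0, 1, 2, 1, 2, 0, 1, 2, 0, 1, 2, 0, 1, 0, 2, 1, 0, 2, 0, 1, 2, 0, 1, 0, 2, 1, 0, 2, 0, 2, 0, 1, 0],
  [0, 2, 0, 2, 1, 2, 0, 2, 0, 1, 2, 1, 2, 0, 1, 2, 0, 1, 2, 0, 1, 0, 2, 1, 0, 2, 0, 1, 2, 0, 1, 0, 2, 1, 0, 2, 0, 2, 0, 2, 0, 2, 1, 2, 0, 2, 0],
  [],
  [],
  [],
  [2, 1, 2, 0, 1, 2, 1, 0, 2, 0, 2, 1, 0, 2, 0, 0, 2, 0, 1, 0, 2, 1, 2, 0, 1, 0, 2, 0, 0, 2, 0, 2, 1, 2, 0, 2, 0, 1, 2, 0, 2, 1, 0, 2, 1, 0, 2, 1, 0, 2, 0, 2, 1],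
  [2, 0, 1, 0, 1, 2, 0, 2, 0, 1, 2, 0, 1, 2, 0, 1, 2, 0, 2, 1, 0, 2, 0, 1, 0, 2, 1, 2, 0, 1, 0, 2, 0, 0, 2, 0, 1, 2, 0, 2, 0, 1, 2, 1, 0, 2, 1],
  [1, 2, 1, 0, 2, 0, 1, 2, 1, 1, 2, 0, 2, 1, 2, 0, 2, 1, 2, 0, 1, 2, 0, 2, 1, 2, 0, 2, 1, 2, 0, 0, 2, 0, 1, 0, 2, 1, 2, 0, 1, 0, 2, 0, 0, 2, 0, 1, 2, 0, 1, 0, 2, 1, 0, 2, 0],
  [0, 1, 0, 2, 1, 2, 0, 1, 2, 1, 0, 2, 0, 2, 1, 0, 2, 0, 0, 2, 0, 1, 0, 2, 1, 2, 0, 1, 0, 2, 0, 1, 2, 0, 2, 1, 0, 2, 1, 0, 2, 1, 0, 2, 0, 2, 1],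
  [],
  [0, 1, 0, 1, 2, 1, 0, 2, 0, 1, 2, 1, 0, 2, 0, 1, 2, 0, 1, 0, 2, 1, 0, 2, 0, 1, 2, 0, 2, 1, 2, 0, 2, 1, 2, 0, 0, 2, 0, 2, 1, 2, 0, 2, 0],
  [],
  [2, 0, 2, 0, 1, 2, 0, 1, 0, 2, 1, 0, 2, 0, 1, 2, 0, 1, 0, 2, 1, 0, 2, 1, 0, 2, 1, 2, 1],
  [0, 2, 0, 1, 0, 2, 1, 2, 0, 1, 0, 2, 0, 0, 2, 0, 1, 2, 0, 1, 0, 2, 1, 0, 2, 0, 2, 0, 2, 0, 1, 2, 0, 1, 0, 2, 1, 0, 2, 0],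
  [1, 2, 1, 2, 0, 1, 2, 0, 1, 2, 0, 1, 0, 2, 1, 0, 1, 0, 1, 2, 0, 1, 0, 2, 1, 0, 2, 1, 0, 2, 1, 2, 1, 0, 2, 0, 2, 1, 2, 0, 2, 0],
  [],
  [0, 2, 0, 1, 2, 0, 1, 0, 2, 1, 0, 2, 0, 0, 2, 1, 2, 0, 2, 1, 2, 0, 2, 1, 1, 2, 0, 2, 1, 0, 2, 1, 0, 2, 1, 0, 2, 0, 2, 1, 1, 2, 0, 1, 2, 1, 0, 2, 0, 2, 1, 0, 2, 0, 0, 1, 0],
  [1, 2, 1, 2, 0, 1, 2, 0, 1, 2, 0, 1, 0, 2, 1, 0, 2, 0, 1, 2, 0, 1, 0, 2, 1, 0, 2, 0, 2],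
  [],
  [2, 0, 2, 0, 1, 2, 0, 1, 0, 2, 1, 0, 2, 0, 0, 1, 0, 1, 2, 0, 1, 0, 2, 1, 0, 2, 1, 0, 2, 1, 2, 1],
  [0, 1, 0, 1, 2, 1, 2, 0, 1, 2, 0, 1, 2, 0, 1, 0, 2, 1, 0, 2, 0, 1, 2, 0, 1, 0, 2, 1, 0, 2, 0, 2, 0, 1, 0],
  [],
  [2, 1, 2, 0, 2, 1, 2, 0, 2, 1, 2, 0, 1, 2, 0, 1, 2, 1, 0, 2, 0, 2, 1, 0, 2, 0, 1, 2, 1, 2, 0, 1, 2, 0, 1, 2, 0, 1, 0, 2, 1, 0, 2, 0, 1, 0, 2, 1, 2, 0, 1, 0, 2, 0],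
  [0, 2, 0, 1, 2, 0, 1, 0, 2, 1, 0, 2, 0, 2, 0, 2, 0, 1, 2, 0, 1, 0, 2, 1, 0, 2, 0, 0, 2, 0, 1, 0, 2, 1, 2, 0, 1, 0, 2, 0],
  [1, 2, 1, 2, 0, 1, 2, 0, 1, 2, 0, 1, 0, 2, 1, 0, 1, 0, 0, 2, 0, 1, 2, 0, 1, 0, 2, 1, 0, 2, 0, 2],
  [],
  [0, 2, 0, 2, 1, 2, 0, 2, 0, 1, 2, 1, 2, 0, 1, 2, 0, 1, 2, 0, 1, 0, 2, 1, 0, 2, 0, 1, 2, 0, 1, 0, 2, 1, 0, 2, 0, 2, 0, 2, 0, 2, 1, 2, 0, 2, 0],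
  [],
  [2, 1, 2, 0, 1, 2, 1, 0, 2, 0, 2, 1, 0, 2, 0, 0, 2, 0, 1, 2, 0, 1, 0, 2, 1, 0, 2, 0, 0, 2, 0, 1, 2, 0, 2, 0, 1, 2, 1, 0, 2, 1, 1, 2, 1, 2, 0, 1, 2, 0, 1, 2, 0, 1, 0, 2, 1],
  [0, 2, 0, 2, 1, 2, 0, 2, 0, 1, 2, 1, 2, 0, 1, 2, 0, 1, 2, 0, 1, 0, 2, 1, 0, 1, 0, 1, 2, 0, 1, 0, 2, 1, 0, 2, 1, 0, 2, 1, 2, 1],
  [0, 1, 0, 2, 0, 2, 0, 1, 2, 0, 1, 0, 2, 1, 0, 2, 0, 1, 2, 0, 1, 0, 2, 1, 0, 2, 1, 0, 2, 1, 2, 1, 0, 1, 0],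
  [0, 2, 0, 2, 1, 2, 0, 2, 0, 2, 0, 2, 0, 1, 2, 0, 1, 0, 2, 1, 0, 2, 0, 1, 2, 0, 1, 0, 2, 1, 0, 2, 1, 0, 2, 1, 2, 1, 0, 2, 0, 2, 1, 2, 0, 2, 0],
  [],
  [],
  [],
  [],
  [],
  [],
  [],
  []]

/-- The word of the block element. -/
def gWord : List Nat := [2, 0, 1, 2, 0, 2, 1, 2, 1, 0, 2, 0, 2, 1, 2, 0, 2, 0, 0, 2, 0, 1, 0, 2, 1, 2, 0, 1, 0, 2, 0, 0, 2, 0, 1, 2, 0, 1, 0, 2, 1, 0, 2, 0, 0, 2, 0, 1, 2, 0, 2, 0, 1, 2, 1, 0, 2, 1, 0, 2, 0, 1, 0, 2, 1, 2, 0, 1, 0, 2, 0]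

/-- Elements of order eleven. -/
def elevenCert : List ((Nat × Nat × Nat) × List MCode) := [((0, 0, 1), [([(1, 4), (2, 3), (3, 4), (4, 5)], 15)]),
  ((0, 0, 2), [([(0, 2), (2, 4), (3, 4), (4, 5)], 217)]),
  ((0, 0, 3), [([(0, 5), (1, 5), (2, 4), (3, 5)], 181)]),
  ((0, 1, 0), [([(0, 2), (1, 5), (3, 5), (4, 5)], 110)]),
  ((0, 2, 0), [([(0, 4), (1, 4), (3, 5), (4, 5)], 25)]),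
  ((0, 3, 0), [([(0, 5), (1, 5), (2, 4), (3, 5)], 214)]),
  ((1, 0, 1), [([(0, 1), (1, 3), (2, 3), (3, 5)], 24)]),
  ((1, 0, 2), [([(0, 4), (1, 4), (2, 5), (3, 5)], 144)]),
  ((1, 0, 3), [([(0, 2), (1, 4), (2, 4), (3, 4)], 131), ([(0, 5), (1, 3), (2, 3), (4, 5)], 148)]),
  ((1, 1, 0), [([(0, 1), (1, 3), (3, 4), (4, 5)], 102)]),
  ((1, 2, 0), [([(0, 1), (1, 3), (3, 4), (4, 5)], 110)]),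
  ((1, 3, 0), [([(1, 3), (2, 5), (3, 4), (4, 5)], 19), ([(1, 3), (2, 4), (3, 5), (4, 5)], 81)])]

/-- Generators of the twisted groups. -/
def twistCert : List ((Nat × Nat × Nat) × Nat × List (List (Nat × MCode))) := [((1, 1, 1), 0, [[(2, ([], 0)), (0, ([(0, 1), (1, 4)], 0)), (1, ([], 0)), (0, ([], 21))],
    [(0, ([], 1)), (1, ([], 0)), (0, ([(1, 2), (2, 3)], 0)), (1, ([], 0)), (0, ([(0, 2), (1, 2), (2, 5), (4, 5)], 90))],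
    [(0, ([(0, 1), (2, 3)], 45))]]),
  ((1, 1, 2), 2, [[(0, ([(1, 2), (2, 3)], 0)), (2, ([], 0)), (0, ([(0, 1), (1, 3)], 0)), (1, ([], 0)), (0, ([(1, 2), (2, 3)], 63))],
    [(1, ([], 0)), (0, ([(1, 2), (2, 3)], 0)), (1, ([], 0)), (0, ([(0, 2), (1, 2), (2, 5), (4, 5)], 82))],
    [(0, ([(0, 1), (2, 3)], 52))]]),
  ((1, 1, 3), 1, [[(0, ([], 1)), (2, ([], 0)), (0, ([(0, 1), (1, 4)], 0)), (1, ([], 0)), (0, ([], 23))],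
    [(0, ([(2, 3), (3, 4)], 0)), (2, ([], 0)), (0, ([(1, 2), (2, 4)], 0)), (1, ([], 0)), (0, ([(1, 2), (2, 3)], 204))],
    [(0, ([(0, 1), (2, 3)], 50))]]),
  ((1, 2, 1), 2, [[(1, ([], 0)), (0, ([(0, 1), (1, 5)], 1)), (1, ([], 0)), (0, ([(1, 2), (4, 5)], 19))],
    [(0, ([], 1)), (1, ([], 0)), (0, ([(0, 1), (1, 3)], 0)), (1, ([], 0)), (0, ([(0, 2), (1, 2), (2, 5), (4, 5)], 10))],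
    [(0, ([(0, 1), (2, 3)], 52))]]),
  ((1, 2, 2), 1, [[(0, ([(0, 1), (1, 4)], 0)), (2, ([], 0)), (0, ([(1, 2), (2, 5)], 0)), (1, ([], 0)), (0, ([(0, 4), (1, 2)], 87))],
    [(1, ([], 0)), (0, ([(0, 1), (1, 3)], 0)), (1, ([], 0)), (0, ([(0, 2), (1, 2), (2, 5), (4, 5)], 2))],
    [(0, ([(0, 1), (2, 3)], 50))]]),
  ((1, 2, 3), 0, [[(0, ([], 9)), (2, ([], 0)), (0, ([(0, 1), (1, 4)], 0)), (1, ([], 0)), (0, ([], 12))],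
    [(0, ([(0, 1), (1, 4)], 0)), (2, ([], 0)), (0, ([(1, 2), (2, 4)], 0)), (1, ([], 0)), (0, ([(0, 4), (2, 4)], 186))],
    [(0, ([(0, 1), (2, 3)], 45))]]),
  ((1, 3, 1), 1, [[(2, ([], 0)), (0, ([(2, 4), (4, 5)], 1)), (1, ([], 0)), (0, ([(0, 2), (4, 5)], 13))],
    [(0, ([], 9)), (1, ([], 0)), (0, ([(0, 1), (1, 3)], 0)), (1, ([], 0)), (0, ([(0, 2), (1, 2), (2, 5), (4, 5)], 10))],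
    [(0, ([(0, 1), (2, 3)], 50))]]),
  ((1, 3, 2), 0, [[(0, ([(1, 3), (3, 5)], 0)), (2, ([], 0)), (0, ([(1, 2), (2, 5)], 0)), (1, ([], 0)), (0, ([(0, 2), (1, 2), (2, 5), (3, 5)], 11))],
    [(2, ([], 0)), (0, ([(2, 3), (3, 4)], 0)), (1, ([], 0)), (0, ([(2, 5), (4, 5)], 171))],
    [(0, ([(0, 1), (2, 3)], 45))]]),
  ((1, 3, 3), 2, [[(0, ([(2, 3), (3, 4)], 0)), (2, ([], 0)), (0, ([(1, 2), (2, 4)], 0)), (1, ([], 0)), (0, ([(0, 2), (1, 4), (2, 4), (3, 4)], 44))],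
    [(0, ([(0, 1), (1, 5)], 0)), (2, ([], 0)), (0, ([(0, 1), (1, 3)], 0)), (1, ([], 0)), (0, ([(0, 5), (1, 5), (2, 4), (4, 5)], 9))],
    [(0, ([(0, 1), (2, 3)], 52))]])]

/-- Words for the odd monomial element. -/
def oddCert : List ((Nat × Nat × Nat) × List (Nat × MCode)) := [((0, 1, 1), [(2, ([], 0)), (0, ([], 2)), (2, ([], 0)), (0, ([], 2)), (1, ([], 0)), (0, ([(0, 2), (1, 2), (3, 4), (4, 5)], 60))]),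
  ((0, 1, 2), [(2, ([], 0)), (0, ([], 2)), (2, ([], 0)), (0, ([], 2)), (1, ([], 0)), (0, ([(0, 2), (1, 2), (3, 4), (4, 5)], 222))]),
  ((0, 1, 3), [(2, ([], 0)), (0, ([], 2)), (2, ([], 0)), (0, ([], 2)), (1, ([], 0)), (0, ([(0, 2), (1, 2), (3, 4), (4, 5)], 141))]),
  ((0, 2, 1), [(2, ([], 0)), (0, ([], 2)), (2, ([], 0)), (0, ([], 2)), (1, ([], 0)), (0, ([(0, 2), (1, 2), (3, 4), (4, 5)], 71))]),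
  ((0, 2, 2), [(2, ([], 0)), (0, ([], 2)), (2, ([], 0)), (0, ([], 2)), (1, ([], 0)), (0, ([(0, 2), (1, 2), (3, 4), (4, 5)], 233))]),
  ((0, 2, 3), [(2, ([], 0)), (0, ([], 2)), (2, ([], 0)), (0, ([], 2)), (1, ([], 0)), (0, ([(0, 2), (1, 2), (3, 4), (4, 5)], 152))]),
  ((0, 3, 1), [(2, ([], 0)), (0, ([], 2)), (2, ([], 0)), (0, ([], 2)), (1, ([], 0)), (0, ([(0, 2), (1, 2), (3, 4), (4, 5)], 79))]),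
  ((0, 3, 2), [(2, ([], 0)), (0, ([], 2)), (2, ([], 0)), (0, ([], 2)), (1, ([], 0)), (0, ([(0, 2), (1, 2), (3, 4), (4, 5)], 241))]),
  ((0, 3, 3), [(2, ([], 0)), (0, ([], 2)), (2, ([], 0)), (0, ([], 2)), (1, ([], 0)), (0, ([(0, 2), (1, 2), (3, 4), (4, 5)], 160))])]

/-- Escaping vectors. -/
def escapes : List (Nat × Nat × Nat × Nat) := [(0, 1, 0, 0), (0, 2, 0, 6), (1, 1, 0, 0), (1, 2, 0, 6)]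

/-- Words of coset representatives. -/
def cosWords : List (List Nat) := [[],
  [0],
  [1],
  [2, 0],
  [2, 1],
  [0, 2, 0],
  [0, 2, 1],
  [1, 2, 0],
  [1, 2, 1],
  [0, 1, 2, 0],
  [0, 1, 2, 1],
  [1, 0, 2, 0],
  [1, 0, 2, 1],
  [2, 0, 2, 0],
  [2, 0, 2, 1],
  [2, 1, 2, 0],
  [2, 1, 2, 1],
  [0, 1, 0, 2, 0],
  [0, 1, 0, 2, 1],
  [0, 2, 0, 2, 1],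
  [0, 2, 1, 2, 0],
  [0, 2, 1, 2, 1],
  [1, 2, 0, 2, 1],
  [1, 2, 1, 2, 0],
  [2, 0, 1, 2, 0],
  [2, 1, 0, 2, 0],
  [2, 1, 0, 2, 1],
  [0, 1, 2, 0, 2, 1],
  [0, 1, 2, 1, 2, 0],
  [0, 2, 0, 1, 2, 0],
  [0, 2, 1, 0, 2, 0],
  [0, 2, 1, 0, 2, 1],
  [1, 0, 2, 0, 2, 1],
  [1, 0, 2, 1, 2, 0],
  [1, 0, 2, 1, 2, 1],
  [1, 2, 0, 1, 2, 0],
  [1, 2, 1, 0, 2, 0],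
  [1, 2, 1, 0, 2, 1],
  [2, 0, 1, 0, 2, 0],
  [2, 0, 1, 0, 2, 1],
  [2, 0, 2, 1, 2, 1],
  [0, 1, 0, 2, 0, 2, 1],
  [0, 1, 0, 2, 1, 2, 0],
  [0, 1, 2, 0, 1, 2, 0],
  [0, 2, 0, 1, 0, 2, 0],
  [0, 2, 0, 1, 0, 2, 1],
  [1, 0, 2, 0, 1, 2, 0],
  [1, 0, 2, 1, 0, 2, 1],
  [1, 2, 0, 1, 0, 2, 1],
  [1, 2, 0, 2, 1, 2, 1],
  [2, 0, 1, 2, 0, 2, 1],
  [2, 0, 1, 2, 1, 2, 0],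
  [2, 0, 2, 0, 1, 2, 0],
  [2, 0, 2, 1, 0, 2, 0],
  [2, 0, 2, 1, 0, 2, 1],
  [2, 1, 0, 2, 0, 2, 1],
  [2, 1, 0, 2, 1, 2, 0]]

/-- Coset representatives. -/
def cosMats : List (List (List Nat)) := [[[1, 0, 0, 0, 0, 0], [0, 1, 0, 0, 0, 0], [0, 0, 1, 0, 0, 0], [0, 0, 0, 1, 0, 0], [0, 0, 0, 0, 1, 0], [0, 0, 0, 0, 0, 1]],
  [[0, 2, 3, 1, 2, 3], [3, 1, 0, 3, 1, 2], [2, 0, 1, 2, 3, 1], [1, 2, 3, 0, 2, 3], [3, 1, 2, 3, 0, 2], [2, 3, 1, 2, 3, 0]],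
  [[0, 3, 1, 3, 3, 1], [2, 0, 2, 1, 1, 2], [1, 3, 1, 3, 0, 1], [2, 1, 2, 0, 1, 2], [2, 1, 0, 1, 1, 2], [1, 3, 1, 3, 3, 0]],
  [[3, 1, 0, 3, 1, 2], [0, 2, 3, 1, 2, 3], [2, 3, 1, 0, 3, 1], [1, 0, 3, 1, 2, 3], [3, 1, 2, 3, 0, 2], [2, 3, 1, 2, 3, 0]],
  [[2, 0, 2, 1, 1, 2], [0, 3, 1, 3, 3, 1], [3, 2, 3, 0, 2, 3], [3, 2, 3, 2, 0, 3], [2, 1, 0, 1, 1, 2], [1, 3, 1, 3, 3, 0]],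
  [[0, 1, 1, 3, 1, 2], [1, 1, 1, 0, 1, 2], [1, 1, 0, 3, 1, 2], [2, 0, 2, 1, 2, 3], [1, 1, 1, 3, 0, 2], [3, 3, 3, 2, 3, 0]],
  [[1, 2, 0, 3, 0, 0], [3, 2, 0, 1, 0, 0], [1, 1, 0, 1, 0, 0], [0, 0, 1, 0, 1, 1], [0, 0, 1, 0, 2, 3], [0, 0, 2, 0, 1, 3]],
  [[1, 2, 1, 0, 0, 0], [3, 3, 1, 0, 0, 0], [0, 0, 0, 1, 1, 3], [2, 1, 1, 0, 0, 0], [0, 0, 0, 1, 3, 1], [0, 0, 0, 1, 2, 2]],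
  [[1, 1, 3, 3, 0, 3], [1, 1, 3, 0, 1, 3], [2, 2, 1, 1, 2, 0], [2, 0, 1, 1, 2, 1], [0, 1, 3, 3, 1, 3], [2, 2, 0, 1, 2, 1]],
  [[3, 0, 3, 2, 3, 1], [1, 1, 1, 3, 0, 2], [1, 1, 0, 3, 1, 2], [0, 3, 3, 2, 3, 1], [1, 1, 1, 0, 1, 2], [3, 3, 3, 2, 3, 0]],
  [[0, 0, 2, 0, 2, 2], [0, 0, 1, 0, 2, 3], [1, 1, 0, 1, 0, 0], [3, 1, 0, 2, 0, 0], [3, 2, 0, 1, 0, 0], [0, 0, 2, 0, 1, 3]],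
  [[3, 2, 2, 0, 0, 0], [0, 0, 0, 1, 3, 1], [0, 0, 0, 1, 1, 3], [3, 1, 3, 0, 0, 0], [3, 3, 1, 0, 0, 0], [0, 0, 0, 1, 2, 2]],
  [[3, 0, 2, 2, 3, 2], [0, 1, 3, 3, 1, 3], [2, 2, 1, 1, 2, 0], [3, 3, 2, 2, 0, 2], [1, 1, 3, 0, 1, 3], [2, 2, 0, 1, 2, 1]],
  [[1, 1, 1, 0, 1, 2], [0, 1, 1, 3, 1, 2], [3, 0, 3, 2, 3, 1], [3, 3, 0, 2, 3, 1], [1, 1, 1, 3, 0, 2], [3, 3, 3, 2, 3, 0]],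
  [[3, 2, 0, 1, 0, 0], [1, 2, 0, 3, 0, 0], [0, 0, 2, 0, 2, 2], [3, 3, 0, 3, 0, 0], [0, 0, 1, 0, 2, 3], [0, 0, 2, 0, 1, 3]],
  [[3, 3, 1, 0, 0, 0], [1, 2, 1, 0, 0, 0], [3, 2, 2, 0, 0, 0], [0, 0, 0, 3, 3, 2], [0, 0, 0, 1, 3, 1], [0, 0, 0, 1, 2, 2]],
  [[1, 1, 3, 0, 1, 3], [1, 1, 3, 3, 0, 3], [3, 0, 2, 2, 3, 2], [1, 1, 3, 3, 1, 0], [0, 1, 3, 3, 1, 3], [2, 2, 0, 1, 2, 1]],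
  [[2, 0, 1, 2, 3, 1], [3, 1, 2, 3, 0, 2], [2, 3, 1, 0, 3, 1], [2, 3, 0, 2, 3, 1], [0, 2, 3, 1, 2, 3], [2, 3, 1, 2, 3, 0]],
  [[1, 3, 1, 3, 0, 1], [2, 1, 0, 1, 1, 2], [3, 2, 3, 0, 2, 3], [1, 0, 1, 3, 3, 1], [0, 3, 1, 3, 3, 1], [1, 3, 1, 3, 3, 0]],
  [[1, 0, 2, 2, 1, 2], [1, 1, 2, 2, 0, 2], [0, 2, 3, 3, 2, 3], [1, 1, 2, 0, 1, 2], [1, 1, 0, 2, 1, 2], [3, 3, 1, 1, 3, 0]],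
  [[0, 2, 3, 2, 3, 1], [3, 0, 2, 1, 2, 3], [2, 3, 0, 3, 1, 2], [3, 1, 2, 1, 0, 3], [2, 3, 1, 0, 1, 2], [1, 2, 3, 2, 3, 0]],
  [[0, 0, 2, 1, 0, 2], [2, 3, 0, 0, 2, 0], [1, 1, 0, 0, 2, 0], [0, 0, 2, 2, 0, 1], [3, 2, 0, 0, 2, 0], [0, 0, 2, 3, 0, 3]],
  [[1, 3, 3, 0, 2, 3], [2, 0, 1, 1, 3, 1], [2, 1, 0, 1, 3, 1], [0, 1, 1, 1, 3, 1], [3, 2, 2, 2, 0, 2], [2, 1, 1, 1, 3, 0]],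
  [[0, 3, 1, 0, 2, 0], [0, 2, 1, 0, 3, 0], [3, 0, 0, 3, 0, 3], [1, 0, 0, 3, 0, 2], [0, 3, 3, 0, 3, 0], [3, 0, 0, 1, 0, 2]],
  [[1, 1, 1, 3, 0, 2], [3, 0, 3, 2, 3, 1], [0, 1, 1, 3, 1, 2], [3, 3, 0, 2, 3, 1], [1, 1, 1, 0, 1, 2], [3, 3, 3, 2, 3, 0]],
  [[0, 0, 0, 1, 3, 1], [3, 2, 2, 0, 0, 0], [1, 2, 1, 0, 0, 0], [0, 0, 0, 3, 3, 2], [3, 3, 1, 0, 0, 0], [0, 0, 0, 1, 2, 2]],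
  [[0, 1, 3, 3, 1, 3], [3, 0, 2, 2, 3, 2], [1, 1, 3, 3, 0, 3], [1, 1, 3, 3, 1, 0], [1, 1, 3, 0, 1, 3], [2, 2, 0, 1, 2, 1]],
  [[2, 2, 3, 0, 2, 3], [1, 1, 0, 2, 1, 2], [0, 2, 3, 3, 2, 3], [3, 0, 1, 1, 3, 1], [1, 1, 2, 2, 0, 2], [3, 3, 1, 1, 3, 0]],
  [[1, 2, 3, 2, 0, 1], [2, 3, 1, 0, 1, 2], [2, 3, 0, 3, 1, 2], [0, 1, 2, 1, 2, 3], [3, 0, 2, 1, 2, 3], [1, 2, 3, 2, 3, 0]],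
  [[2, 0, 2, 2, 1, 1], [2, 1, 0, 2, 1, 1], [3, 2, 3, 3, 0, 2], [0, 2, 3, 3, 2, 2], [3, 2, 3, 3, 2, 0], [2, 1, 2, 0, 1, 1]],
  [[3, 3, 2, 0, 2, 3], [0, 1, 3, 3, 3, 1], [3, 0, 2, 2, 2, 3], [3, 3, 2, 2, 2, 0], [1, 1, 0, 3, 3, 1], [1, 1, 3, 3, 0, 1]],
  [[0, 1, 3, 1, 3, 3], [2, 2, 1, 0, 1, 1], [2, 0, 1, 2, 1, 1], [1, 1, 3, 1, 3, 0], [1, 1, 3, 1, 0, 3], [2, 2, 0, 2, 1, 1]],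
  [[0, 2, 2, 2, 1, 2], [3, 2, 2, 2, 0, 2], [2, 1, 0, 1, 3, 1], [3, 2, 2, 0, 1, 2], [2, 0, 1, 1, 3, 1], [2, 1, 1, 1, 3, 0]],
  [[2, 0, 0, 1, 0, 3], [0, 3, 3, 0, 3, 0], [3, 0, 0, 3, 0, 3], [0, 2, 3, 0, 1, 0], [0, 2, 1, 0, 3, 0], [3, 0, 0, 1, 0, 2]],
  [[2, 2, 3, 2, 2, 0], [1, 0, 2, 1, 1, 3], [0, 3, 1, 3, 3, 2], [3, 3, 0, 3, 3, 2], [1, 1, 2, 1, 0, 3], [2, 2, 3, 0, 2, 1]],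
  [[0, 3, 3, 1, 1, 3], [1, 3, 0, 1, 1, 3], [2, 1, 1, 2, 2, 0], [1, 0, 3, 1, 1, 3], [2, 1, 1, 2, 0, 1], [2, 1, 1, 0, 2, 1]],
  [[1, 1, 3, 3, 0, 3], [1, 0, 3, 3, 1, 3], [3, 3, 0, 2, 3, 2], [2, 2, 1, 0, 2, 1], [0, 1, 3, 3, 1, 3], [1, 1, 3, 3, 1, 0]],
  [[1, 3, 2, 1, 0, 1], [1, 3, 0, 1, 1, 1], [2, 1, 3, 2, 2, 0], [3, 2, 1, 0, 3, 3], [0, 1, 3, 2, 2, 2], [3, 0, 1, 3, 3, 3]],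
  [[3, 1, 2, 3, 0, 2], [2, 0, 1, 2, 3, 1], [3, 1, 0, 3, 1, 2], [1, 2, 3, 0, 2, 3], [0, 2, 3, 1, 2, 3], [2, 3, 1, 2, 3, 0]],
  [[2, 1, 0, 1, 1, 2], [1, 3, 1, 3, 0, 1], [2, 0, 2, 1, 1, 2], [2, 1, 2, 0, 1, 2], [0, 3, 1, 3, 3, 1], [1, 3, 1, 3, 3, 0]],
  [[2, 3, 0, 0, 2, 0], [0, 0, 2, 1, 0, 2], [0, 0, 3, 3, 0, 2], [3, 3, 0, 0, 1, 0], [3, 2, 0, 0, 2, 0], [0, 0, 2, 3, 0, 3]],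
  [[1, 1, 0, 1, 0, 0], [0, 0, 1, 0, 2, 3], [0, 0, 2, 0, 2, 2], [2, 1, 0, 3, 0, 0], [1, 2, 0, 3, 0, 0], [0, 0, 2, 0, 1, 3]],
  [[0, 0, 0, 1, 1, 3], [0, 0, 0, 1, 3, 1], [3, 2, 2, 0, 0, 0], [2, 2, 3, 0, 0, 0], [1, 2, 1, 0, 0, 0], [0, 0, 0, 1, 2, 2]],
  [[0, 3, 1, 1, 3, 3], [3, 2, 3, 3, 2, 0], [3, 2, 3, 3, 0, 2], [1, 0, 1, 1, 3, 3], [2, 1, 0, 2, 1, 1], [2, 1, 2, 0, 1, 1]],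
  [[1, 0, 3, 2, 1, 1], [0, 1, 3, 2, 1, 1], [2, 2, 1, 3, 0, 2], [3, 3, 2, 1, 3, 0], [1, 1, 0, 2, 1, 1], [1, 1, 3, 0, 1, 1]],
  [[2, 3, 0, 1, 1, 3], [3, 1, 3, 2, 2, 0], [3, 1, 3, 2, 0, 1], [2, 3, 2, 0, 1, 3], [0, 2, 1, 3, 3, 2], [1, 0, 1, 3, 3, 2]],
  [[2, 0, 1, 2, 2, 1], [2, 1, 1, 2, 0, 1], [2, 1, 1, 2, 2, 0], [0, 2, 2, 3, 3, 2], [1, 3, 0, 1, 1, 3], [2, 1, 1, 0, 2, 1]],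
  [[1, 3, 2, 0, 1, 1], [0, 1, 3, 2, 2, 2], [2, 1, 3, 2, 2, 0], [3, 2, 1, 3, 0, 3], [1, 3, 0, 1, 1, 1], [3, 0, 1, 3, 3, 3]],
  [[1, 0, 2, 2, 3, 3], [0, 1, 2, 2, 3, 3], [3, 3, 1, 1, 0, 2], [3, 3, 1, 1, 2, 0], [2, 2, 0, 3, 1, 1], [2, 2, 3, 0, 1, 1]],
  [[0, 3, 0, 3, 2, 0], [3, 0, 2, 0, 0, 2], [0, 1, 0, 3, 1, 0], [0, 3, 0, 1, 1, 0], [3, 0, 1, 0, 0, 3], [2, 0, 2, 0, 0, 3]],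
  [[1, 1, 0, 2, 1, 2], [2, 2, 3, 0, 2, 3], [1, 0, 2, 2, 1, 2], [0, 1, 2, 2, 1, 2], [1, 1, 2, 2, 0, 2], [3, 3, 1, 1, 3, 0]],
  [[2, 3, 1, 0, 1, 2], [1, 2, 3, 2, 0, 1], [0, 2, 3, 2, 3, 1], [1, 2, 0, 2, 3, 1], [3, 0, 2, 1, 2, 3], [1, 2, 3, 2, 3, 0]],
  [[2, 1, 0, 2, 1, 1], [2, 0, 2, 2, 1, 1], [0, 3, 1, 1, 3, 3], [2, 1, 2, 2, 0, 1], [3, 2, 3, 3, 2, 0], [2, 1, 2, 0, 1, 1]],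
  [[0, 1, 3, 3, 3, 1], [3, 3, 2, 0, 2, 3], [1, 1, 3, 3, 3, 0], [2, 0, 1, 1, 1, 2], [1, 1, 0, 3, 3, 1], [1, 1, 3, 3, 0, 1]],
  [[2, 2, 1, 0, 1, 1], [0, 1, 3, 1, 3, 3], [2, 2, 1, 2, 1, 0], [1, 0, 3, 1, 3, 3], [1, 1, 3, 1, 0, 3], [2, 2, 0, 2, 1, 1]],
  [[3, 2, 2, 2, 0, 2], [0, 2, 2, 2, 1, 2], [1, 3, 3, 0, 2, 3], [1, 3, 0, 3, 2, 3], [2, 0, 1, 1, 3, 1], [2, 1, 1, 1, 3, 0]],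
  [[0, 3, 3, 0, 3, 0], [2, 0, 0, 1, 0, 3], [0, 3, 1, 0, 2, 0], [2, 0, 0, 2, 0, 2], [0, 2, 1, 0, 3, 0], [3, 0, 0, 1, 0, 2]]]

end Cfsg.UFourInUSix
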