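import Cfsg.Agent.UFourInUSix.Sylow
import Cfsg.Agent.UFourInUSix.Data
import Cfsg.Agent.UFourThreeCover.Checks

/-!
# Codes of monomial, block and twisted elements
-/

set_option autoImplicit false
set_option maxRecDepth 20000

open Matrix Equiv

namespace Cfsg.UFourInUSix

open Cfsg.Lib.USixTwoCover (K dec mul4 sqr)

/-- The code of a monomial matrix. -/
def monCode (π : Perm (Fin 6)) (d : Fin 6 → ZMod 3) : CMat :=
  List.ofFn fun i : Fin 6 => List.ofFn fun j : Fin 6 => if i = π j then (d j).val + 1 else 0

theorem dm_monCode (π : Perm (Fin 6)) (d : Fin 6 → ZMod 3) : dm (monCode π d) = monMat π fun i => ww (d i) := by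
  ext i j
  have e : ent (monCode π d) i.val j.val = (if i = π j then (d j).val + 1 else 0) % 4 := by
    simp only [ent, monCode, List.getD_eq_getElem?_getD, List.getElem?_ofFn, i.isLt, j.isLt, dif_pos, Option.getD_some, Fin.eta]
  rw [dm, Matrix.of_apply, e]
  simp only [monMat, Matrix.of_apply]
  split
  · have h3 : (d j).val < 3 := ZMod.val_lt _
    rw [Nat.mod_eq_of_lt (show (d j).val + 1 < 4 by omega)]
    rfl
  · decide +kernel

/-- The transposed code. -/
def ctp (a : CMat) : CMat := (List.range 6).map fun i => (List.range 6).map fun j => ent a j i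

/-- The squared code. -/
def csq (a : CMat) : CMat :=
  (List.range 6).map fun i => (List.range 6).map fun j => mul4 (ent a i j) (ent a i j)

/-- The conjugate transposed code. -/
def cct (a : CMat) : CMat := csq (ctp a)

theorem ent_ctp (a : CMat) {i j : ℕ} (hi : i < 6) (hj : j < 6) : ent (ctp a) i j = ent a j i := by
  simp [ent, ctp, List.getD_eq_getElem?_getD, hi, hj]

theorem ent_csq (a : CMat) {i j : ℕ} (hi : i < 6) (hj : j < 6) :
    ent (csq a) i j = mul4 (ent a i j) (ent a i j) := by
  have h := Cfsg.Lib.USixTwoCover.mul_lt (ent a i j) (ent a i j)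
  conv_lhs => rw [ent, csq]
  simp [List.getD_eq_getElem?_getD, hi, hj, Nat.mod_eq_of_lt h]

theorem dm_ctp (a : CMat) : dm (ctp a) = (dm a)ᵀ := by
  ext i j
  simp [dm, ent_ctp a i.isLt j.isLt]

theorem dm_csq (a : CMat) : dm (csq a) = (dm a).map sqr := by
  ext i j
  simp only [dm, Matrix.of_apply, Matrix.map_apply, ent_csq a i.isLt j.isLt]
  rw [Cfsg.Lib.USixTwoCover.dec_mul (ent_lt _ _ _) (ent_lt _ _ _)]
  rfl

/-- A coded unitary matrix of determinant one. -/
def ofCode (a : CMat) (hd : (dm a).det = 1) (hu : ceq (cmul (ctp a) (csq a)) cone = true) : SU6 :=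
  mkSU (dm a) hd (by rw [← dm_ctp, ← dm_csq, ← dm_cmul, ceq_spec hu, dm_cone])

theorem mt_ofCode (a : CMat) (hd : (dm a).det = 1) (hu : ceq (cmul (ctp a) (csq a)) cone = true) :
    mt (ofCode a hd hu) = dm a := rfl

theorem det_of_sq {a : CMat} (h : ceq (cmul a a) cone = true) : (dm a).det = 1 :=
  Cfsg.Lib.USixTwoCover.det_one_of_sq (by rw [← dm_cmul, ceq_spec h, dm_cone])

theorem mt_inv_code {g : SU6} {a b : CMat} (hg : mt g = dm a) (h : ceq (cmul b a) cone = true) :
    mt g⁻¹ = dm b := by
  calc mt g⁻¹ = dm b * dm a * mt g⁻¹ := by rw [← dm_cmul, ceq_spec h, dm_cone, Matrix.one_mul]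
    _ = dm b := by rw [← hg, Matrix.mul_assoc, mt_mul_inv, Matrix.mul_one]

/-- The permutation of a list of transpositions. -/
def mperm (s : List (ℕ × ℕ)) : Perm (Fin 6) :=
  (s.map fun p => swap (⟨p.1 % 6, Nat.mod_lt _ (by norm_num)⟩ : Fin 6) ⟨p.2 % 6, Nat.mod_lt _ (by norm_num)⟩).prod

/-- The even permutation of a code. -/
def mevn (s : List (ℕ × ℕ)) : Perm (Fin 6) := if Perm.sign (mperm s) = 1 then mperm s else 1

/-- The exponents of a code. -/
def mexp (n : ℕ) : Fin 6 → ZMod 3 := ext6 fun i => ((n / 3 ^ i.val % 3 : ℕ) : ZMod 3)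

/-- The monomial element of a code. -/
def melt (t : MCode) : SU6 := mon (mevn t.1) (mexp t.2) (sum_ext6 _)

theorem melt_mem (t : MCode) : melt t ∈ MM := by
  refine mon_mem ?_ _ _
  rw [Perm.mem_alternatingGroup, mevn]
  split
  · assumption
  · exact map_one _

/-- The code of the monomial element of a code. -/
def mcode (t : MCode) : CMat := monCode (mevn t.1) (mexp t.2)

theorem mt_melt (t : MCode) : mt (melt t) = dm (mcode t) := (mt_mon _ _ _).trans (dm_monCode _ _).symm

/-- An entry of a three by three code. -/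
def e3 (A : CMat) (i j : ℕ) : ℕ := (A.getD i []).getD j 0 % 4

/-- A block diagonal code. -/
def blkc (A B : CMat) : CMat := (List.range 6).map fun i => (List.range 6).map fun j =>
  if i < 3 then (if j < 3 then e3 A i j else 0) else (if j < 3 then 0 else e3 B (i - 3) (j - 3))

theorem ent_blkc (A B : CMat) {i j : ℕ} (hi : i < 6) (hj : j < 6) : ent (blkc A B) i j =
    if i < 3 then (if j < 3 then e3 A i j else 0) else (if j < 3 then 0 else e3 B (i - 3) (j - 3)) := by
  conv_lhs => rw [ent, blkc]
  simp only [List.getD_eq_getElem?_getD, List.getElem?_map, List.getElem?_range hi, Option.map_some,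
    Option.getD_some, List.getElem?_range hj]
  split <;> split <;> simp [e3]

/-- The block representative. -/
def bcode (a b : Fin 4) : CMat := blkc (rep3.getD a.val []) (rep3.getD b.val [])

/-- The transposition code. -/
def tcode : CMat := monCode (swap 0 1) 0

/-- The representative with or without transposition. -/
def xcode (e : Bool) (a b : Fin 4) : CMat := if e then cmul tcode (bcode a b) else bcode a b

theorem bcode_facts : ∀ a b : Fin 4, ceq (cmul (ctp (bcode a b)) (csq (bcode a b))) cone = true := by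
  decide +kernel

theorem bcode_det : ∀ a b : Fin 4, (dm (bcode a b)).det = 1 := by decide +kernel

/-- The transposition. -/
def tau : SU6 := mon (swap 0 1) 0 (by simp)

theorem mt_tau : mt tau = dm tcode := (mt_mon _ _ _).trans (dm_monCode _ _).symm

/-- The block element. -/
def bel (a b : Fin 4) : SU6 := ofCode (bcode a b) (bcode_det a b) (bcode_facts a b)

/-- The representative element. -/
def xel (e : Bool) (a b : Fin 4) : SU6 := if e then tau * bel a b else bel a b

theorem mt_xel (e : Bool) (a b : Fin 4) : mt (xel e a b) = dm (xcode e a b) := by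
  cases e
  · rfl
  · show mt (tau * bel a b) = dm (cmul tcode (bcode a b))
    rw [mt_mul, mt_tau, dm_cmul]
    rfl

/-- The code of a twist. -/
def cdelta (k : ZMod 3) (a : CMat) : CMat :=
  cmul (monCode 1 (fun i => if i = 0 then k else 0)) (cmul a (monCode 1 (fun i => if i = 0 then -k else 0)))

theorem twist_det (k : ZMod 3) (g : SU6) :
    (monMat 1 (fun i => ww (if i = 0 then k else 0)) * (mt g * monMat 1 fun i => ww (if i = 0 then -k else 0))).det = 1 := by
  rw [Matrix.det_mul, Matrix.det_mul, mt_det, one_mul, det_monMat, det_monMat, ww_sum, ww_sum, ← ww_facts.1,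
    ← ww_facts.2.2.2.1]
  congr 1
  simp

theorem map_sqr_mul (A B : Matrix (Fin 6) (Fin 6) K) : (A * B).map sqr = A.map sqr * B.map sqr := Matrix.map_mul

theorem mt_unitary (g : SU6) : (mt g)ᵀ * (mt g).map sqr = 1 := by
  ext i j
  have h := g.2 (Pi.single i 1) (Pi.single j 1)
  rw [Cfsg.Lib.USixTwoCover.hermForm_eq, Cfsg.Lib.USixTwoCover.hermForm_eq, Matrix.mulVec_single_one,
    Matrix.mulVec_single_one] at h
  rw [Matrix.mul_apply]
  refine (h.trans ?_)
  rw [single_dotProduct, one_mul, Matrix.one_apply]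
  by_cases hij : i = j
  · subst hij; simp
  · simp [hij]

/-- Conjugation by a diagonal matrix of the general unitary group. -/
def twistEl (k : ZMod 3) (g : SU6) : SU6 :=
  mkSU _ (twist_det k g) (by
    have hD := monMat_unitary 1 fun i => if i = 0 then k else 0
    have hE := monMat_unitary 1 fun i => if i = 0 then -k else 0
    rw [Matrix.transpose_mul, Matrix.transpose_mul, map_sqr_mul, map_sqr_mul]
    calc _ = (monMat 1 fun i => ww (if i = 0 then -k else 0))ᵀ * ((mt g)ᵀ *
          (((monMat 1 fun i => ww (if i = 0 then k else 0))ᵀ * (monMat 1 fun i => ww (if i = 0 then k else 0)).map sqr) *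
            (mt g).map sqr)) * (monMat 1 fun i => ww (if i = 0 then -k else 0)).map sqr := by
            simp only [Matrix.mul_assoc]
      _ = 1 := by rw [hD, Matrix.one_mul, mt_unitary, Matrix.mul_one, hE])

theorem mt_twistEl (k : ZMod 3) (g : SU6) : mt (twistEl k g) =
    monMat 1 (fun i => ww (if i = 0 then k else 0)) * (mt g * monMat 1 fun i => ww (if i = 0 then -k else 0)) := rfl

theorem delta_inv (k : ZMod 3) :
    (monMat 1 fun i => ww (if i = 0 then -k else 0)) * monMat 1 (fun i => ww (if i = 0 then k else 0)) = 1 := by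
  rw [monMat_mul, one_mul, monMat_one, ← Matrix.diagonal_one]
  congr 1
  funext j
  rw [Perm.one_apply, ← ww_facts.1, ← ww_facts.2.2.2.1]
  congr 1
  split <;> simp

theorem twist_mul (k : ZMod 3) (g h : SU6) : twistEl k (g * h) = twistEl k g * twistEl k h := by
  refine mt_ext ?_
  rw [mt_mul, mt_twistEl, mt_twistEl, mt_twistEl, mt_mul]
  simp only [Matrix.mul_assoc]
  rw [← Matrix.mul_assoc (monMat 1 fun i => ww (if i = 0 then -k else 0)) (monMat 1 _), delta_inv, Matrix.one_mul]

theorem twist_zero (g : SU6) : twistEl 0 g = g := by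
  refine mt_ext ?_
  have e : (monMat 1 fun i => ww (if i = 0 then (0 : ZMod 3) else 0)) = 1 := by
    simp [monMat_one, ww_facts.2.2.2.1]
  rw [mt_twistEl, neg_zero, e, Matrix.one_mul, Matrix.mul_one]

theorem twist_add (k l : ZMod 3) (g : SU6) : twistEl k (twistEl l g) = twistEl (k + l) g := by
  refine mt_ext ?_
  rw [mt_twistEl, mt_twistEl, mt_twistEl]
  have e : ∀ a b : ZMod 3, (monMat 1 fun i => ww (if i = 0 then a else 0)) *
      monMat 1 (fun i => ww (if i = 0 then b else 0)) = monMat 1 fun i => ww (if i = 0 then a + b else 0) := by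
    intro a b
    rw [monMat_mul, one_mul]
    congr 1
    funext j
    rw [Perm.one_apply, ← ww_facts.1]
    congr 1
    split <;> simp
  rw [← e k l, neg_add_rev, ← e (-l) (-k)]
  simp only [Matrix.mul_assoc]

/-- The twisting automorphism. -/
def twist (k : ZMod 3) : SU6 ≃* SU6 where
  toFun := twistEl k
  invFun := twistEl (-k)
  left_inv g := by rw [twist_add, neg_add_cancel, twist_zero]
  right_inv g := by rw [twist_add, add_neg_cancel, twist_zero]
  map_mul' := twist_mul k

theorem mt_twist (k : ZMod 3) {g : SU6} {a : CMat} (h : mt g = dm a) : mt (twist k g) = dm (cdelta k a) := by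
  show mt (twistEl k g) = _
  rw [mt_twistEl, h, cdelta, dm_cmul, dm_cmul, dm_monCode, dm_monCode]

theorem twist_mon (k : ZMod 3) (π : Perm (Fin 6)) (d : Fin 6 → ZMod 3) (h : ∑ i, d i = 0) :
    ∃ d' h', twist k (mon π d h) = mon π d' h' := by
  have e : mt (twist k (mon π d h)) = monMat π fun i =>
      ww ((if π i = 0 then k else 0) + (d i + if i = 0 then -k else 0)) := by
    show mt (twistEl k _) = _
    rw [mt_twistEl, mt_mon, monMat_mul, monMat_mul, mul_one, one_mul]
    simp only [Perm.one_apply, ← ww_facts.1]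
  refine ⟨_, ?_, mt_ext e⟩
  rw [Finset.sum_add_distrib, Finset.sum_add_distrib, h, Equiv.sum_comp π fun i => if i = 0 then k else 0]
  simp

theorem twist_MP (k : ZMod 3) (P : Subgroup (Perm (Fin 6))) : (MP P).map (twist k).toMonoidHom = MP P := by
  have hle : ∀ k, (MP P).map (twist k).toMonoidHom ≤ MP P := by
    rintro k _ ⟨_, ⟨π, hπ, d, h, rfl⟩, rfl⟩
    obtain ⟨d', h', e⟩ := twist_mon k π d h
    exact ⟨π, hπ, d', h', e⟩
  refine le_antisymm (hle k) fun x hx => ⟨twist (-k) x, hle (-k) ⟨x, hx, rfl⟩, ?_⟩
  show twistEl k (twistEl (-k) x) = x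
  rw [twist_add, add_neg_cancel, twist_zero]

end Cfsg.UFourInUSix
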