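import Cfsg.Agent.UFourInUSix.Blocks

/-!
# Comparing a subgroup of the same shape with the first subgroup
-/

set_option autoImplicit false
set_option maxRecDepth 20000
set_option maxHeartbeats 1000000
set_option linter.style.haveILetI false

open Matrix Equiv

namespace Cfsg.UFourInUSix

open Cfsg.Lib.USixTwoCover (K dec sqr)

attribute [local irreducible] tripleKK

namespace Triple

variable {H : Subgroup SU6} (T : Triple H)

/-- Elements of `H` with the image of an element of `X`. -/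
noncomputable def lift (X : Subgroup SU6) : Subgroup SU6 :=
  (((X.subgroupOf KK).map tripleKK.π).comap T.π).map H.subtype

theorem mem_lift {X : Subgroup SU6} {x : SU6} : x ∈ T.lift X ↔
    ∃ hx : x ∈ H, ∃ y : KK, (y : SU6) ∈ X ∧ tripleKK.π y = T.π ⟨x, hx⟩ := by
  constructor
  · rintro ⟨⟨x, hx⟩, ⟨y, hy, e⟩, rfl⟩
    exact ⟨hx, y, hy, e⟩
  · rintro ⟨hx, y, hy, e⟩
    exact ⟨⟨x, hx⟩, ⟨y, hy, e⟩, rfl⟩

theorem lift_le (X : Subgroup SU6) : T.lift X ≤ H := fun _ hx => (T.mem_lift.1 hx).1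

theorem lift_mono {X Y : Subgroup SU6} (h : X ≤ Y) : T.lift X ≤ T.lift Y := fun _ hx => by
  obtain ⟨hx', y, hy, e⟩ := T.mem_lift.1 hx
  exact T.mem_lift.2 ⟨hx', y, h hy, e⟩

theorem pi_inj {x y : H} (e : T.π x = T.π y) : ((x⁻¹ * y : H) : SU6) ∈ Z6 :=
  (T.ker _).1 (by rw [map_mul, map_inv, e, inv_mul_cancel])

theorem card_lift {X : Subgroup SU6} (hZ : Z6 ≤ X) (hX : X ≤ KK) : Nat.card (T.lift X) = Nat.card X := by
  set Y := (X.subgroupOf KK).map tripleKK.π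
  have h1 : Y.comap tripleKK.π = X.subgroupOf KK := by
    refine Subgroup.comap_map_eq_self fun g hg => Subgroup.mem_subgroupOf.2 (hZ ((tripleKK.ker g).1 hg))
  have e1 := Subgroup.card_mul_index (Y.comap T.π)
  have e2 := Subgroup.card_mul_index (Y.comap tripleKK.π)
  rw [Subgroup.index_comap_of_surjective _ T.surj, T.card] at e1
  rw [Subgroup.index_comap_of_surjective _ tripleKK.surj, tripleKK.card, h1] at e2
  rw [← Nat.card_congr (Subgroup.subgroupOfEquivOfLe hX).toEquiv,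
    show T.lift X = (Y.comap T.π).map H.subtype from rfl,
    Subgroup.card_map_of_injective H.subtype_injective]
  exact Nat.eq_of_mul_eq_mul_right (Nat.pos_of_ne_zero (by intro h; rw [h, mul_zero] at e1; omega)) (e1.trans e2.symm)

end Triple

theorem Z6_le_MM : Z6 ≤ MM := Z6_le_DD.trans (MP_mono bot_le)

theorem DD_le_MM : DD ≤ MM := MP_mono bot_le

theorem SS_le_MM : SS ≤ MM := by
  refine MP_mono ?_
  rintro _ ⟨a, rfl⟩
  rw [Perm.mem_alternatingGroup]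
  exact (by decide +kernel : ∀ a : A9, Perm.sign (cyc a) = 1) a

/-- A subgroup aligned with the first one on the Sylow subgroup. -/
structure Aligned (H : Subgroup SU6) extends Triple H where
  hS : SS ≤ H
  hSS : (SS.subgroupOf H).map π = (SS.subgroupOf KK).map tripleKK.π

namespace Aligned

variable {H : Subgroup SU6} (T : Aligned H)

/-- Partners in the lift of a subgroup. -/
noncomputable abbrev lift (X : Subgroup SU6) : Subgroup SU6 := T.toTriple.lift X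

theorem lift_SS : T.lift SS = SS := by
  refine Subgroup.eq_of_le_of_card_ge (fun x hx => ?_)
    (T.toTriple.card_lift (Z6_le_DD.trans DD_le_SS) (SS_le_MM.trans MM_le_KK)).ge
  obtain ⟨hx', y, hy, e⟩ := T.toTriple.mem_lift.1 hx
  have : T.π ⟨x, hx'⟩ ∈ (SS.subgroupOf H).map T.π := T.hSS.symm ▸ ⟨y, hy, e⟩
  obtain ⟨s, hs, es⟩ := this
  have hz := T.toTriple.pi_inj es
  have := mul_mem (show (s : SU6) ∈ SS from hs) ((Z6_le_DD.trans DD_le_SS) hz)
  simpa using this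

theorem lift_DD : T.lift DD = DD := by
  refine eq_DD ((T.toTriple.lift_mono DD_le_SS).trans T.lift_SS.le)
    ((T.toTriple.card_lift Z6_le_DD (DD_le_MM.trans MM_le_KK)).trans card_DD) fun x hx y hy => ?_
  obtain ⟨hx', a, ha, ea⟩ := T.toTriple.mem_lift.1 hx
  obtain ⟨hy', b, hb, eb⟩ := T.toTriple.mem_lift.1 hy
  refine (T.ker ⟨_, mul_mem (mul_mem (mul_mem hx' hy') (inv_mem hx')) (inv_mem hy')⟩).1 ?_
  show T.π (⟨x, hx'⟩ * ⟨y, hy'⟩ * ⟨x, hx'⟩⁻¹ * ⟨y, hy'⟩⁻¹) = 1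
  rw [map_mul, map_mul, map_mul, map_inv, map_inv, ← ea, ← eb, ← map_inv, ← map_inv, ← map_mul, ← map_mul,
    ← map_mul, tripleKK.ker]
  obtain ⟨d, hd, ed⟩ := mem_DD.1 ha
  obtain ⟨e, he, ee⟩ := mem_DD.1 hb
  have hc : (a : SU6) * b = b * a := by
    rw [ed, ee, mon_mul, mon_mul]
    exact mon_ext rfl (funext fun i => by simp [add_comm])
  simp only [Subgroup.coe_mul, Subgroup.coe_inv]
  rw [hc, mul_inv_cancel_right, mul_inv_cancel]
  exact one_mem _

theorem partner_DD {y : KK} (hy : (y : SU6) ∈ DD) : ∃ x : H, (x : SU6) ∈ DD ∧ T.π x = tripleKK.π y := by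
  obtain ⟨x, hx⟩ := T.surj (tripleKK.π y)
  exact ⟨x, T.lift_DD ▸ T.toTriple.mem_lift.2 ⟨x.2, y, hy, hx.symm⟩, hx⟩

theorem partner_DD' {x : H} (hx : (x : SU6) ∈ DD) : ∃ y : KK, (y : SU6) ∈ DD ∧ tripleKK.π y = T.π x := by
  rw [← T.lift_DD] at hx
  obtain ⟨_, y, hy, e⟩ := T.toTriple.mem_lift.1 hx
  exact ⟨y, hy, e⟩

theorem lift_MM_le : T.lift MM ≤ MN := fun x hx => by
  obtain ⟨hx', m, hm, em⟩ := T.toTriple.mem_lift.1 hx
  refine mem_MN_of_normalises fun y hy => ?_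
  have hyH : y ∈ H := T.hS (DD_le_SS hy)
  obtain ⟨z, hz, ez⟩ := T.partner_DD' (x := ⟨y, hyH⟩) hy
  rw [← T.lift_DD]
  refine T.toTriple.mem_lift.2 ⟨mul_mem (mul_mem hx' hyH) (inv_mem hx'), m * z * m⁻¹, ?_, ?_⟩
  · exact normalises_of_mem_MN (MP_mono le_top hm) hz
  · show tripleKK.π (m * z * m⁻¹) = T.π (⟨x, hx'⟩ * ⟨y, hyH⟩ * ⟨x, hx'⟩⁻¹)
    rw [map_mul, map_mul, map_inv, map_mul, map_mul, map_inv, ez, em]

theorem lift_MM : T.lift MM = MM :=
  eq_MM T.lift_MM_le ((T.toTriple.card_lift Z6_le_MM MM_le_KK).trans card_MM)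

include T in
theorem MM_le : MM ≤ H := T.lift_MM.ge.trans (T.toTriple.lift_le _)

include T in
theorem inf_MN {g : SU6} (hg : g ∈ H) (hm : g ∈ MN) : g ∈ MM := by
  obtain ⟨p, hp⟩ := tripleKK.surj (T.π ⟨g, hg⟩)
  rw [← T.lift_MM]
  refine T.toTriple.mem_lift.2 ⟨hg, p, KK_inf_MN p.2 (mem_MN_of_normalises fun y hy => ?_), hp⟩
  obtain ⟨x, hx, ex⟩ := T.partner_DD (y := ⟨y, MM_le_KK (DD_le_MM hy)⟩) hy
  have hc : ((⟨g, hg⟩ * x * ⟨g, hg⟩⁻¹ : H) : SU6) ∈ DD := by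
    rw [Subgroup.coe_mul, Subgroup.coe_mul, Subgroup.coe_inv]
    exact normalises_of_mem_MN hm hx
  obtain ⟨z, hz, ez⟩ := T.partner_DD' hc
  have e : tripleKK.π z = tripleKK.π (p * ⟨y, MM_le_KK (DD_le_MM hy)⟩ * p⁻¹) := by
    simp only [ez, map_mul, map_inv, hp, ex]
  have := mul_mem hz (Z6_le_DD (tripleKK.pi_inj e))
  simpa using this

include T in
theorem tau_not : tau ∉ H := fun h => by
  have := T.inf_MN h (mon_mem (Subgroup.mem_top _) _ _)
  obtain ⟨π, hπ, d, hd, e⟩ := this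
  obtain ⟨e1, -⟩ := mon_inj e
  rw [← e1, Perm.mem_alternatingGroup] at hπ
  exact absurd hπ (by decide +kernel)

theorem two_commute : ∀ (a : A9) (x y : ZMod 3) (i : Fin 6), two x y ((cyc a)⁻¹ i) = two x y i := by
  decide +kernel

theorem gX_commute : ∀ a b : ZMod 3, ceq (cmul (xcode true 1 1) (monCode 1 (two a b)))
    (cmul (monCode 1 (two a b)) (xcode true 1 1)) = true := by
  decide +kernel

include T in
/-- A block diagonal element of `H` outside the monomial group. -/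
theorem exists_block : ∃ g ∈ H, g ∉ MN ∧ ∀ i j : Fin 6, i.val / 3 ≠ j.val / 3 → mt g i j = 0 := by
  obtain ⟨g, hg⟩ := T.surj (tripleKK.π ⟨xel true 1 1, gX_mem⟩)
  refine ⟨g, g.2, fun hm => ?_, ?_⟩
  · have h := T.inf_MN g.2 hm
    rw [← T.lift_MM] at h
    obtain ⟨_, y, hy, e⟩ := T.toTriple.mem_lift.1 h
    have hz := tripleKK.pi_inj (e.trans hg)
    refine gX_not_MN ?_
    have := mul_mem (MP_mono le_top hy : (y : SU6) ∈ MN) (MP_mono le_top (Z6_le_MM hz))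
    simpa using this
  let x0 : SU6 := mon 1 (two 0 1) (two_sum 0 1)
  have hx0 : x0 ∈ DD := mem_DD.2 ⟨_, _, rfl⟩
  have hx0H : x0 ∈ H := T.hS (DD_le_SS hx0)
  obtain ⟨y, hy, ey⟩ := T.partner_DD' (x := ⟨x0, hx0H⟩) hx0
  have hform : ∀ s ∈ SS, s * y * s⁻¹ * (y : SU6)⁻¹ ∈ Z6 := fun s hs => by
    have hs1 : s ∈ KK := MM_le_KK (SS_le_MM hs)
    have : T.π ⟨s, T.hS hs⟩ ∈ (SS.subgroupOf H).map T.π := ⟨_, hs, rfl⟩
    rw [T.hSS] at this
    have h2 : tripleKK.π ⟨s, hs1⟩ ∈ (SS.subgroupOf KK).map tripleKK.π := ⟨_, hs, rfl⟩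
    rw [← T.hSS] at h2
    obtain ⟨s', hs', es⟩ := h2
    refine (tripleKK.ker ⟨_, mul_mem (mul_mem (mul_mem hs1 y.2) (inv_mem hs1)) (inv_mem y.2)⟩).1 ?_
    show tripleKK.π (⟨s, hs1⟩ * y * ⟨s, hs1⟩⁻¹ * y⁻¹) = 1
    rw [map_mul, map_mul, map_mul, map_inv, map_inv, ← es, ey, ← map_inv, ← map_inv, ← map_mul, ← map_mul,
      ← map_mul, T.ker]
    obtain ⟨π, ⟨a, rfl⟩, d, hd, e⟩ := (show (s' : SU6) ∈ SS from hs')
    simp only [Subgroup.coe_mul, Subgroup.coe_inv, e]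
    rw [show mon (cyc a) d hd * x0 * (mon (cyc a) d hd)⁻¹ = x0 from
      (mon_conj _ _ _ hd _).trans (mon_ext rfl (funext (two_commute a 0 1))), mul_inv_cancel]
    exact one_mem _
  obtain ⟨a, b, hab⟩ := central_form hy hform
  have hcomm : xel true 1 1 * y = y * xel true 1 1 := by
    refine mt_ext ?_
    rw [mt_mul, mt_mul, hab, mt_xel, mt_mon, ← dm_monCode, ← dm_cmul, ← dm_cmul, ceq_spec (gX_commute a b)]
  refine block_of_comm (a := 0) (b := 1) (by decide) ?_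
  refine (T.ker ⟨_, mul_mem (mul_mem (mul_mem g.2 hx0H) (inv_mem g.2)) (inv_mem hx0H)⟩).1 ?_
  show T.π (g * ⟨x0, hx0H⟩ * g⁻¹ * ⟨x0, hx0H⟩⁻¹) = 1
  rw [map_mul, map_mul, map_mul, map_inv, map_inv, hg, ← ey, ← map_inv, ← map_inv, ← map_mul, ← map_mul, ← map_mul,
    tripleKK.ker]
  simp only [Subgroup.coe_mul, Subgroup.coe_inv]
  rw [hcomm, mul_inv_cancel_right, mul_inv_cancel]
  exact one_mem _

theorem bel_zero : bel 0 0 = 1 :=
  mt_ext ((mt_ofCode _ _ _).trans ((ceq_spec (show ceq (bcode 0 0) cone = true by decide +kernel)).trans dm_cone))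

include T in
/-- A representative in `H`. -/
theorem exists_rep : ∃ e a b, ¬((a : Fin 4).val = 0 ∧ (b : Fin 4).val = 0) ∧ xel e a b ∈ H := by
  obtain ⟨g, hg, hgm, hb⟩ := T.exists_block
  obtain ⟨a, b, hm⟩ := block_decomp hb
  have hne : ¬(a.val = 0 ∧ b.val = 0) := fun h => hgm (by
    rw [show a = 0 from Fin.ext h.1, show b = 0 from Fin.ext h.2, bel_zero, inv_one, mul_one] at hm
    exact hm)
  rcases MN_split hm with h | h
  · refine ⟨false, a, b, hne, ?_⟩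
    have := mul_mem (inv_mem (T.MM_le h)) hg
    show bel a b ∈ H
    simpa [mul_assoc] using this
  · refine ⟨true, a, b, hne, ?_⟩
    have := mul_mem (inv_mem (T.MM_le h)) hg
    show tau * bel a b ∈ H
    have ht : tau⁻¹ = tau := inv_eq_of_mul_eq_one_right tau_mul_tau
    simpa [mul_assoc, ht] using this

end Aligned

end Cfsg.UFourInUSix
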