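import Cfsg.Agent.UFourInUSix.Checks
import Cfsg.Agent.UFourThreeCover.Mult

/-!
# The first subgroup of shape three times the unitary group in dimension four over nine elements
-/

set_option autoImplicit false
set_option maxRecDepth 20000
set_option maxHeartbeats 1000000
set_option linter.style.haveILetI false

open Matrix Equiv

namespace Cfsg.UFourInUSix

open Cfsg.Lib.USixTwoCover (K dec sqr)
open Cfsg.Lib.UFourThreeCover (Cover imD actA toP top_eq zHom zD zWords range_zHom card_facts psu_center)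
open Cfsg.Lib.CosetCert (wval)
open Cfsg.Lib.PermCert (ap)

/-- The quotient group. -/
abbrev Q9 : Type := Cfsg.PSU 4 Cfsg.Lib.UFourThreeCover.K 3

theorem card_Q9 : Nat.card Q9 = 3265920 := Cfsg.Lib.UFourThreeCover.card_psu

instance finite_Q9 : Finite Q9 := Nat.finite_of_card_ne_zero (by rw [card_Q9]; norm_num)

instance simple_Q9 : IsSimpleGroup Q9 :=
  Cfsg.Agent.S0283.result (F := Cfsg.Lib.UFourThreeCover.K) (q := 3) Cfsg.Lib.UFourThreeCover.card_K 4
    (by norm_num) (by norm_num)

theorem blt_of {a b : ℕ} (h : Nat.blt a b = true) : a < b := Nat.le_of_ble_eq_true h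

/-- The vector of a point. -/
def vv (a : Fin 378) : Fin 6 → K := vdec (vcode a.val)

theorem vcode_lt (a : Fin 378) : vcode a.val < 4096 ∧ inV (vcode a.val) = true := by
  have h := List.all_eq_true.1 vcode_ok a.val (List.mem_range.2 a.isLt)
  rw [Bool.and_eq_true] at h
  exact ⟨blt_of h.1, h.2⟩

theorem gc_facts {l : ℕ} (hl : l < 3) :
    ceq (cmul (gc l) (gc l)) cone = true ∧ ceq (cmul (ctp (gc l)) (csq (gc l))) cone = true := by
  have h := List.all_eq_true.1 gc_ok l (List.mem_range.2 hl)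
  rwa [Bool.and_eq_true] at h

/-- A letter. -/
def gam (l : Fin 3) : SU6 := ofCode (gc l.val) (det_of_sq (gc_facts l.isLt).1) (gc_facts l.isLt).2

theorem gam_vec (l : Fin 3) (a : Fin 378) : dm (gc l.val) *ᵥ vv a = vv (actA (imD l.val) a) := by
  have h := List.all_eq_true.1 (List.all_eq_true.1 vecG_ok l.val (List.mem_range.2 l.isLt)) a.val
    (List.mem_range.2 a.isLt)
  simp only [Bool.and_eq_true] at h
  have e : (actA (imD l.val) a).val = ap (ctab l.val) (2160 + a.val) - 2160 :=
    Cfsg.Lib.UFourThreeCover.res_imD _ _ l.isLt a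
  rw [vv, vv, e, ← vdec_vimg, Nat.eq_of_beq_eq_true h.2]

/-- Elements with a matrix. -/
def pairsV : Subgroup (Cover × SU6) where
  carrier := {t | ∀ r, mt t.2 *ᵥ vv r = vv (actA t.1 r)}
  one_mem' := fun r => by simp [mt_one]
  mul_mem' := fun {s t} hs ht r => by
    rw [Prod.snd_mul, Prod.fst_mul, mt_mul, ← Matrix.mulVec_mulVec, ht, hs, map_mul, Equiv.Perm.mul_apply]
  inv_mem' := fun {t} ht r => by
    have h := ht ((actA t.1)⁻¹ r)
    rw [Equiv.Perm.coe_inv, Equiv.apply_symm_apply] at h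
    rw [Prod.snd_inv, Prod.fst_inv, map_inv, Equiv.Perm.coe_inv, ← h, Matrix.mulVec_mulVec, mt_inv_mul,
      Matrix.one_mulVec]

theorem exists_el (g : Cover) : ∃ M, (g, M) ∈ pairsV := by
  have h : pairsV.map (MonoidHom.fst Cover _) = ⊤ := top_eq fun l hl =>
    ⟨(imD l, gam ⟨l, hl⟩), fun r => gam_vec ⟨l, hl⟩ r, rfl⟩
  obtain ⟨⟨g', M⟩, hM, rfl⟩ := (h.symm ▸ Subgroup.mem_top g : g ∈ pairsV.map (MonoidHom.fst Cover _))
  exact ⟨M, hM⟩

theorem el_unique {M N : SU6} (h : ∀ r, mt M *ᵥ vv r = mt N *ᵥ vv r) : M = N := by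
  have hb : ∀ j : Fin 6, ∃ r : Fin 378, (fun i => dm bmat i j) = vv r := fun j => by
    have hlt : brow.getD j.val 0 < 378 := by
      rw [List.getD_eq_getElem _ _ (by rw [basis_ok.2.2]; exact j.isLt)]
      exact blt_of (List.all_eq_true.1 basis_ok.2.1 _ (List.getElem_mem _))
    refine ⟨⟨_, hlt⟩, funext fun i => ?_⟩
    simp [dm, vv, vdec, ent, bmat, List.getD_eq_getElem?_getD]
  have e : mt M * dm bmat = mt N * dm bmat := Matrix.ext fun i j => by
    obtain ⟨r, hr⟩ := hb j
    have := congrFun (h r) i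
    rw [← hr] at this
    exact this
  have hinv : dm bmat * dm binv = 1 := by rw [← dm_cmul, ceq_spec basis_ok.1, dm_cone]
  refine mt_ext ?_
  calc mt M = mt M * dm bmat * dm binv := by rw [Matrix.mul_assoc, hinv, Matrix.mul_one]
    _ = mt N := by rw [e, Matrix.mul_assoc, hinv, Matrix.mul_one]

/-- The representation. -/
noncomputable def rho : Cover →* SU6 :=
  MonoidHom.mk' (fun g => (exists_el g).choose) fun g k => el_unique fun r => by
    rw [(exists_el (g * k)).choose_spec r]
    exact (pairsV.mul_mem (exists_el g).choose_spec (exists_el k).choose_spec r).symm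

theorem rho_spec (g : Cover) (r : Fin 378) : mt (rho g) *ᵥ vv r = vv (actA g r) := (exists_el g).choose_spec r

theorem mt_rho_imD {l : ℕ} (hl : l < 3) : mt (rho (imD l)) = dm (gc l) :=
  congrArg mt (el_unique (N := gam ⟨l, hl⟩) fun r => (rho_spec _ r).trans (gam_vec ⟨l, hl⟩ r).symm)

theorem mt_rho_word {w : List ℕ} (hw : wlt w = true) : mt (rho (wval imD w)) = dm (wcode w) := by
  have h : ∀ l ∈ w, l < 3 := fun l hl => blt_of (List.all_eq_true.1 hw l hl)
  rw [wval, map_list_prod, mt_list_prod, wcode, dm_cprod, List.map_map, List.map_map, List.map_map]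
  exact congrArg List.prod (List.map_congr_left fun l hl => mt_rho_imD (h l hl))

/-- The first subgroup. -/
noncomputable def KK : Subgroup SU6 := rho.range

theorem word_mem {w : List ℕ} {g : SU6} {a : CMat} (hw : wlt w = true) (hg : mt g = dm a)
    (he : ceq (wcode w) a = true) : g ∈ KK :=
  ⟨wval imD w, mt_ext (by rw [mt_rho_word hw, ceq_spec he, hg])⟩

theorem inV_of_mem {g : SU6} (hg : g ∈ KK) {a : CMat} (ha : mt g = dm a) (r : Fin 378) :
    inV (vimg a (vcode r.val)) = true := by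
  obtain ⟨c, rfl⟩ := hg
  have h := rho_spec c r
  rw [ha, vv, ← vdec_vimg] at h
  rw [vdec_eq_iff (vimg_lt _ _) (vcode_lt _).1 h]
  exact (vcode_lt _).2

theorem MM_le_KK : MM ≤ KK := by
  refine MM_le (fun i => ?_) fun a b c h1 h2 h3 => ?_
  · exact word_mem (dWords_ok i).1 ((mt_mon _ _ _).trans (dm_monCode _ _).symm) (dWords_ok i).2
  · exact word_mem (tWords_ok a b c h1 h2 h3).1 ((mt_mon _ _ _).trans (dm_monCode _ _).symm)
      (tWords_ok a b c h1 h2 h3).2

theorem gX_mem : xel true 1 1 ∈ KK := word_mem gWord_ok.1 (mt_xel _ _ _) gWord_ok.2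

theorem notMon_spec {g : SU6} {a : CMat} (ha : mt g = dm a) (h : notMon a = true) : g ∉ MN := by
  rintro ⟨π, -, d, hd, rfl⟩
  simp only [notMon, List.any_eq_true, List.mem_range, Bool.and_eq_true] at h
  obtain ⟨j, hj, i, hi, k, hk, ⟨hik, hij⟩, hkj⟩ := h
  have hz : ∀ x : Fin 6, 0 < ent a x.val j → x = π ⟨j, hj⟩ := fun x hx => by
    by_contra hne
    have e := congrFun (congrFun ha x) ⟨j, hj⟩
    rw [mt_mon] at e
    simp only [monMat, Matrix.of_apply, if_neg hne, dm] at e
    exact Nat.lt_irrefl 0 (dec_inj' (by norm_num) (ent_lt _ _ _) ((show dec 0 = 0 by decide +kernel).trans e) ▸ hx)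
  have := congrArg Fin.val ((hz ⟨i, hi⟩ (blt_of hij)).trans (hz ⟨k, hk⟩ (blt_of hkj)).symm)
  exact absurd this (Nat.ne_of_lt (blt_of hik))

theorem gX_not_MN : xel true 1 1 ∉ MN := notMon_spec (mt_xel _ _ _) (bel_shape 1 (by decide))

theorem zD_mem (k : Fin 3) : ∃ c, rho (zD k.val) = scal c := by
  obtain ⟨hw, c, hc⟩ := zWords_ok.1 k
  exact ⟨c, mt_ext ((mt_rho_word hw).trans ((ceq_spec hc).trans (((mt_mon _ _ _).trans (dm_monCode _ _).symm)).symm))⟩

theorem ker_toP_le : toP.ker ≤ Z6.comap rho := by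
  rw [← range_zHom]
  rintro _ ⟨t, rfl⟩
  show rho (zHom t) ∈ Z6
  have h : ∀ k : Fin 3, rho (zD k.val) ∈ Z6 := fun k => mem_Z6.2 (zD_mem k)
  show rho (Cfsg.Lib.UFourThreeCover.zVal t) ∈ Z6
  rw [Cfsg.Lib.UFourThreeCover.zVal, map_mul, map_mul, map_pow, map_pow, map_pow]
  exact mul_mem (pow_mem (h 0) _) (mul_mem (pow_mem (h 1) _) (pow_mem (h 2) _))

theorem tcy_not_central : tcy 0 1 2 ∉ Z6 := fun h => by
  obtain ⟨c, hc⟩ := mem_Z6.1 h
  exact absurd (mon_inj hc).1 (by decide +kernel)

theorem comap_Z6 : Z6.comap rho = toP.ker := by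
  refine le_antisymm ?_ ker_toP_le
  have hn : ((Z6.comap rho).map toP).Normal :=
    Subgroup.Normal.map (Subgroup.Normal.comap inferInstance rho) toP card_facts.2.2
  rcases hn.eq_bot_or_eq_top with h | h
  · exact (Subgroup.map_eq_bot_iff _).1 h
  · exfalso
    have htop : Z6.comap rho = ⊤ := by
      rw [← sup_eq_left.2 ker_toP_le, ← Subgroup.comap_map_eq, h, Subgroup.comap_top]
    have hm : tcy 0 1 2 ∈ KK :=
      MM_le_KK (mon_mem (by rw [Perm.mem_alternatingGroup]; decide +kernel) _ _)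
    obtain ⟨c, hc⟩ := hm
    exact tcy_not_central (hc ▸ (htop.symm ▸ Subgroup.mem_top c : c ∈ Z6.comap rho))

theorem rhoR_surj : Function.Surjective rho.rangeRestrict := rho.rangeRestrict_surjective

/-- The projection of the first subgroup. -/
noncomputable def piOne : KK →* Q9 :=
  rho.rangeRestrict.liftOfSurjective rhoR_surj ⟨toP, fun g hg => by
    rw [← comap_Z6, Subgroup.mem_comap]
    rw [MonoidHom.ker_rangeRestrict, MonoidHom.mem_ker] at hg
    rw [hg]
    exact one_mem _⟩

theorem piOne_rho (c : Cover) : piOne (rho.rangeRestrict c) = toP c :=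
  MonoidHom.liftOfRightInverse_comp_apply _ _ _ _ c

theorem scal_mem_KK (c : ZMod 3) : scal c ∈ KK := MM_le_KK (mon_mem (one_mem _) _ _)

/-- A subgroup containing the centre with the projective group as quotient. -/
structure Triple (H : Subgroup SU6) where
  /-- The projection. -/
  π : H →* Q9
  surj : Function.Surjective π
  ker : ∀ g : H, π g = 1 ↔ (g : SU6) ∈ Z6
  hZ : Z6 ≤ H

/-- The structure of the first subgroup. -/
noncomputable def tripleKK : Triple KK where
  π := piOne
  surj q := by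
    obtain ⟨c, rfl⟩ := card_facts.2.2 q
    exact ⟨_, piOne_rho c⟩
  ker g := by
    obtain ⟨c, rfl⟩ := rhoR_surj g
    rw [piOne_rho, ← MonoidHom.mem_ker, ← comap_Z6, Subgroup.mem_comap]
    rfl
  hZ g hg := by
    obtain ⟨c, rfl⟩ := mem_Z6.1 hg
    exact scal_mem_KK c

theorem Triple.card {H : Subgroup SU6} (T : Triple H) : Nat.card H = 9797760 := by
  rw [Subgroup.card_eq_card_quotient_mul_card_subgroup T.π.ker,
    Nat.card_congr (QuotientGroup.quotientKerEquivOfSurjective T.π T.surj).toEquiv, card_Q9,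
    show T.π.ker = Z6.subgroupOf H from SetLike.ext fun g => MonoidHom.mem_ker.trans (T.ker g),
    Nat.card_congr (Subgroup.subgroupOfEquivOfLe T.hZ).toEquiv, card_Z6]

theorem Triple.center {H : Subgroup SU6} (T : Triple H) : Subgroup.center H = Z6.subgroupOf H := by
  refine le_antisymm (fun g hg => ?_) fun g hg => Subgroup.mem_center_iff.2 fun x =>
    Subtype.ext (Subgroup.mem_center_iff.1 hg (x : SU6))
  rw [Subgroup.mem_subgroupOf, ← T.ker]
  refine psu_center (Subgroup.mem_center_iff.2 fun y => ?_)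
  obtain ⟨x, rfl⟩ := T.surj y
  rw [← map_mul, ← map_mul, Subgroup.mem_center_iff.1 hg x]

theorem Triple.is {H : Subgroup SU6} (T : Triple H) : Nat.card (Subgroup.center H) = 3 ∧
    Nonempty (H ⧸ Subgroup.center H ≃* Q9) := by
  constructor
  · rw [T.center, Nat.card_congr (Subgroup.subgroupOfEquivOfLe T.hZ).toEquiv, card_Z6]
  · have e : Subgroup.center H = T.π.ker := T.center.trans
      (SetLike.ext fun g => (T.ker g).symm.trans MonoidHom.mem_ker.symm)
    exact ⟨(QuotientGroup.quotientMulEquivOfEq e).trans (QuotientGroup.quotientKerEquivOfSurjective T.π T.surj)⟩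

theorem MN_split {g : SU6} (hg : g ∈ MN) : g ∈ MM ∨ g * tau ∈ MM := by
  obtain ⟨π, -, d, h, rfl⟩ := hg
  rcases Int.units_eq_one_or (Perm.sign π) with e | e
  · exact Or.inl (mon_mem (Perm.mem_alternatingGroup.2 e) d h)
  · refine Or.inr ?_
    rw [tau, mon_mul]
    refine mon_mem (Perm.mem_alternatingGroup.2 ?_) _ _
    rw [map_mul, e, Perm.sign_swap (by decide)]
    rfl

theorem tau_mul_tau : tau * tau = 1 := by
  rw [tau, mon_mul, ← mon_one]
  exact mon_ext (swap_mul_self _ _) (funext fun i => by simp)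

theorem cos_mem (i : Fin 57) : ∃ u ∈ KK, mt u = dm (cosMats.getD i.val []) ∧
    mt u⁻¹ = dm (cct (cosMats.getD i.val [])) := by
  obtain ⟨hw, he, hi⟩ := cos_ok i
  have hm : mt (rho (wval imD (cosWords.getD i.val []))) = dm (cosMats.getD i.val []) := by
    rw [mt_rho_word hw, ceq_spec he]
  exact ⟨_, ⟨_, rfl⟩, hm, mt_inv_code hm hi⟩

theorem tau_not_mem : tau ∉ KK := fun ht => by
  have hMN : MN ≤ KK := fun g hg => by
    rcases MN_split hg with h | h
    · exact MM_le_KK h
    · have := mul_mem (MM_le_KK h) ht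
      rwa [mul_assoc, tau_mul_tau, mul_one] at this
  choose u hu hmu hmu' using cos_mem
  let f : Fin 57 × MN → KK := fun t => ⟨u t.1 * t.2.1, mul_mem (hu t.1) (hMN t.2.2)⟩
  have hsep : ∀ i j, i < j → (u i)⁻¹ * u j ∉ MN := fun i j hij =>
    notMon_spec (by rw [mt_mul, hmu', hmu, ← dm_cmul]) (cos_sep i j hij)
  have hf : Function.Injective f := by
    rintro ⟨i, m⟩ ⟨j, m'⟩ e
    have e' : u i * m.1 = u j * m'.1 := congrArg Subtype.val e
    have hij : i = j := by
      by_contra hne
      have hq : ∀ i j (m m' : MN), u i * m.1 = u j * m'.1 → (u i)⁻¹ * u j ∈ MN := fun i j m m' e => by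
        have : (u i)⁻¹ * u j = m.1 * m'.1⁻¹ := by
          rw [inv_mul_eq_iff_eq_mul, ← mul_assoc, e, mul_inv_cancel_right]
        rw [this]
        exact mul_mem m.2 (inv_mem m'.2)
      rcases lt_or_gt_of_ne hne with h | h
      · exact hsep i j h (hq i j m m' e')
      · exact hsep j i h (hq j i m' m e'.symm)
    subst hij
    exact Prod.ext rfl (Subtype.ext (mul_left_cancel e'))
  have h := Nat.card_le_card_of_injective f hf
  rw [Nat.card_prod, Nat.card_fin, card_MN, tripleKK.card] at h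
  omega

theorem KK_inf_MN {g : SU6} (hg : g ∈ KK) (hm : g ∈ MN) : g ∈ MM := by
  rcases MN_split hm with h | h
  · exact h
  · have := mul_mem (inv_mem hg) (MM_le_KK h)
    rw [inv_mul_cancel_left] at this
    exact absurd this tau_not_mem

end Cfsg.UFourInUSix
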