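import Cfsg.Agent.UFourInUSix.Codes
import Mathlib.GroupTheory.SpecificGroups.Alternating

/-!
# Monomial elements of the six-dimensional unitary group over the field with four elements
-/

set_option autoImplicit false
set_option maxRecDepth 20000

open Matrix Equiv

namespace Cfsg.UFourInUSix

open Cfsg.Lib.USixTwoCover (K dec mul4 sqr)

/-- A monomial matrix. -/
def monMat (π : Perm (Fin 6)) (x : Fin 6 → K) : Matrix (Fin 6) (Fin 6) K :=
  Matrix.of fun i j => if i = π j then x j else 0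

theorem monMat_mul (π σ : Perm (Fin 6)) (x y : Fin 6 → K) :
    monMat π x * monMat σ y = monMat (π * σ) fun j => x (σ j) * y j := by
  ext i j
  simp only [monMat, Matrix.mul_apply, Matrix.of_apply]
  rw [Finset.sum_eq_single (σ j)]
  · by_cases h : i = π (σ j) <;> simp [h]
  · intro k _ hk
    simp [hk]
  · simp

theorem monMat_one (x : Fin 6 → K) : monMat 1 x = Matrix.diagonal x := by
  ext i j
  by_cases h : i = j
  · subst h; simp [monMat]
  · simp [monMat, h]

theorem sign_cast (π : Perm (Fin 6)) : ((Perm.sign π : ℤˣ) : K) = 1 := by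
  rcases Int.units_eq_one_or (Perm.sign π) with h | h <;> rw [h]
  · simp
  · rw [Units.val_neg, Units.val_one, Int.cast_neg, Int.cast_one, CharTwo.neg_eq]

theorem det_monMat (π : Perm (Fin 6)) (x : Fin 6 → K) : (monMat π x).det = ∏ i, x i := by
  have e : monMat π x = (1 : Matrix (Fin 6) (Fin 6) K).submatrix id π * Matrix.diagonal x := by
    ext i j
    simp [monMat, Matrix.mul_diagonal, Matrix.one_apply]
  rw [e, Matrix.det_mul, Matrix.det_permute', Matrix.det_one, mul_one, sign_cast, one_mul, Matrix.det_diagonal]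

/-- The powers of a primitive cube root of unity. -/
def ww (k : ZMod 3) : K := dec (k.val + 1)

theorem ww_facts : (∀ a b : ZMod 3, ww (a + b) = ww a * ww b) ∧ (∀ a : ZMod 3, ww a * sqr (ww a) = 1) ∧
    (∀ a b : ZMod 3, ww a = ww b → a = b) ∧ ww 0 = 1 ∧ (∀ a : ZMod 3, ww a ≠ 0) := by
  decide +kernel

theorem ww_surj : ∀ x : K, x ≠ 0 → ∃ a, ww a = x := by
  simp only [Cfsg.Lib.PrimeGraph.KQuad.forall_iff]
  decide +kernel

theorem ww_sum (d : Fin 6 → ZMod 3) : ∏ i, ww (d i) = ww (∑ i, d i) := by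
  simp only [Fin.prod_univ_six, Fin.sum_univ_six, ww_facts.1]

theorem monMat_unitary (π : Perm (Fin 6)) (d : Fin 6 → ZMod 3) :
    (monMat π fun i => ww (d i))ᵀ * (monMat π fun i => ww (d i)).map sqr = 1 := by
  ext i j
  simp only [monMat, Matrix.mul_apply, Matrix.transpose_apply, Matrix.map_apply, Matrix.of_apply]
  rw [Finset.sum_eq_single (π i)]
  · by_cases h : i = j
    · subst h
      simp [ww_facts.2.1]
    · simp [h]
  · intro k _ hk
    simp [hk]
  · simp

/-- A monomial element. -/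
def mon (π : Perm (Fin 6)) (d : Fin 6 → ZMod 3) (h : ∑ i, d i = 0) : SU6 :=
  mkSU (monMat π fun i => ww (d i)) (by rw [det_monMat, ww_sum, h, ww_facts.2.2.2.1]) (monMat_unitary π d)

theorem mt_mon (π : Perm (Fin 6)) (d : Fin 6 → ZMod 3) (h : ∑ i, d i = 0) :
    mt (mon π d h) = monMat π fun i => ww (d i) := rfl

theorem mon_ext {π σ : Perm (Fin 6)} {d e : Fin 6 → ZMod 3} {h : ∑ i, d i = 0} {h' : ∑ i, e i = 0}
    (hp : π = σ) (hd : d = e) : mon π d h = mon σ e h' := by
  subst hp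
  subst hd
  rfl

theorem sum_comp {d e : Fin 6 → ZMod 3} (h : ∑ i, d i = 0) (h' : ∑ i, e i = 0) (σ : Perm (Fin 6)) :
    ∑ i, (d (σ i) + e i) = 0 := by
  rw [Finset.sum_add_distrib, Equiv.sum_comp σ d, h, h', add_zero]

theorem mon_mul (π σ : Perm (Fin 6)) (d e : Fin 6 → ZMod 3) (h : ∑ i, d i = 0) (h' : ∑ i, e i = 0) :
    mon π d h * mon σ e h' = mon (π * σ) (fun i => d (σ i) + e i) (sum_comp h h' σ) := by
  refine mt_ext ?_
  rw [mt_mul, mt_mon, mt_mon, mt_mon, monMat_mul]
  simp only [ww_facts.1]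

theorem mon_one : mon 1 0 (by simp) = 1 := by
  refine mt_ext ?_
  rw [mt_mon, mt_one]
  ext i j
  simp [monMat, Matrix.one_apply, ww_facts.2.2.2.1]

theorem sum_inv {d : Fin 6 → ZMod 3} (h : ∑ i, d i = 0) (π : Perm (Fin 6)) : ∑ i, -d (π⁻¹ i) = 0 := by
  rw [Finset.sum_neg_distrib, Equiv.sum_comp π⁻¹ d, h, neg_zero]

theorem mon_inv (π : Perm (Fin 6)) (d : Fin 6 → ZMod 3) (h : ∑ i, d i = 0) :
    (mon π d h)⁻¹ = mon π⁻¹ (fun i => -d (π⁻¹ i)) (sum_inv h π) := by
  refine inv_eq_of_mul_eq_one_right ?_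
  rw [mon_mul, ← mon_one]
  exact mon_ext (mul_inv_cancel π) (funext fun i => by simp)

theorem mon_inj {π σ : Perm (Fin 6)} {d e : Fin 6 → ZMod 3} {h : ∑ i, d i = 0} {h' : ∑ i, e i = 0}
    (q : mon π d h = mon σ e h') : π = σ ∧ d = e := by
  have q' : ∀ i j, monMat π (fun i => ww (d i)) i j = monMat σ (fun i => ww (e i)) i j := fun i j =>
    congrFun (congrFun (congrArg mt q) i) j
  have hp : π = σ := Equiv.ext fun j => by
    have := q' (π j) j
    by_contra hne
    simp [monMat, hne, ww_facts.2.2.2.2] at this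
  refine ⟨hp, funext fun j => ww_facts.2.2.1 _ _ ?_⟩
  have := q' (π j) j
  subst hp
  simpa [monMat] using this

theorem mon_conj (π : Perm (Fin 6)) (d e : Fin 6 → ZMod 3) (h : ∑ i, d i = 0) (h' : ∑ i, e i = 0) :
    mon π d h * mon 1 e h' * (mon π d h)⁻¹ = mon 1 (fun i => e (π⁻¹ i)) (by rw [Equiv.sum_comp π⁻¹ e, h']) := by
  rw [mon_inv, mon_mul, mon_mul]
  exact mon_ext (by simp) (funext fun i => by simp)

/-- Monomial elements with permutation in a subgroup. -/
def MP (P : Subgroup (Perm (Fin 6))) : Subgroup SU6 where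
  carrier := {g | ∃ π ∈ P, ∃ d, ∃ h, g = mon π d h}
  one_mem' := ⟨1, one_mem P, 0, _, mon_one.symm⟩
  mul_mem' := by
    rintro _ _ ⟨π, hπ, d, h, rfl⟩ ⟨σ, hσ, e, h', rfl⟩
    exact ⟨_, mul_mem hπ hσ, _, _, mon_mul π σ d e h h'⟩
  inv_mem' := by
    rintro _ ⟨π, hπ, d, h, rfl⟩
    exact ⟨_, inv_mem hπ, _, _, mon_inv π d h⟩

theorem mon_mem {P : Subgroup (Perm (Fin 6))} {π : Perm (Fin 6)} (hπ : π ∈ P) (d : Fin 6 → ZMod 3)
    (h : ∑ i, d i = 0) : mon π d h ∈ MP P := ⟨π, hπ, d, h, rfl⟩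

theorem MP_mono {P Q : Subgroup (Perm (Fin 6))} (hPQ : P ≤ Q) : MP P ≤ MP Q := by
  rintro _ ⟨π, hπ, d, h, rfl⟩
  exact mon_mem (hPQ hπ) d h

/-- A vector of exponents from its first five values. -/
def ext6 (v : Fin 5 → ZMod 3) : Fin 6 → ZMod 3 := Fin.snoc v (-∑ i, v i)

theorem sum_ext6 (v : Fin 5 → ZMod 3) : ∑ i, ext6 v i = 0 := by
  rw [Fin.sum_univ_castSucc]
  simp only [ext6, Fin.snoc_castSucc, Fin.snoc_last, add_neg_cancel]

theorem ext6_res {d : Fin 6 → ZMod 3} (h : ∑ i, d i = 0) : ext6 (fun i => d i.castSucc) = d := by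
  funext i
  refine Fin.lastCases ?_ (fun k => ?_) i
  · rw [Fin.sum_univ_castSucc] at h
    simp only [ext6, Fin.snoc_last]
    exact neg_eq_of_add_eq_zero_right h
  · simp [ext6]

theorem ext6_inj : Function.Injective ext6 := fun v w e => funext fun i => by
  simpa [ext6] using congrFun e i.castSucc

theorem card_MP (P : Subgroup (Perm (Fin 6))) : Nat.card (MP P) = Nat.card P * 243 := by
  let f : P × (Fin 5 → ZMod 3) → MP P := fun t => ⟨mon t.1.1 (ext6 t.2) (sum_ext6 t.2), mon_mem t.1.2 _ _⟩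
  have hf : Function.Bijective f := by
    refine ⟨fun a b e => ?_, ?_⟩
    · obtain ⟨e1, e2⟩ := mon_inj (h := sum_ext6 _) (h' := sum_ext6 _) (congrArg Subtype.val e)
      exact Prod.ext (Subtype.ext e1) (ext6_inj e2)
    · rintro ⟨_, π, hπ, d, h, rfl⟩
      exact ⟨(⟨π, hπ⟩, fun i => d i.castSucc), Subtype.ext (mon_ext (h := sum_ext6 _) (h' := h) rfl (ext6_res h))⟩
  rw [← Nat.card_eq_of_bijective f hf, Nat.card_prod]
  simp

/-- All monomial elements. -/
abbrev MN : Subgroup SU6 := MP ⊤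

/-- Monomial elements with even permutation. -/
abbrev MM : Subgroup SU6 := MP (alternatingGroup (Fin 6))

/-- The diagonal elements. -/
abbrev DD : Subgroup SU6 := MP ⊥

theorem mem_DD {g : SU6} : g ∈ DD ↔ ∃ d h, g = mon 1 d h := by
  constructor
  · rintro ⟨π, hπ, d, h, rfl⟩
    exact ⟨d, h, mon_ext (Subgroup.mem_bot.1 hπ) rfl⟩
  · rintro ⟨d, h, rfl⟩
    exact mon_mem (one_mem _) d h

theorem card_DD : Nat.card DD = 243 := by rw [card_MP, Subgroup.card_bot, one_mul]

theorem card_MM : Nat.card MM = 87480 := by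
  rw [card_MP, nat_card_alternatingGroup, Nat.card_fin]
  norm_num [Nat.factorial]

theorem card_MN : Nat.card MN = 174960 := by
  rw [card_MP, Subgroup.card_top, Nat.card_perm, Nat.card_fin]
  norm_num [Nat.factorial]

/-- An element with a monomial matrix is monomial. -/
theorem mem_MN_of_monMat {g : SU6} {π : Perm (Fin 6)} {x : Fin 6 → K} (h : mt g = monMat π x) : g ∈ MN := by
  have hx : ∏ i, x i = 1 := by rw [← det_monMat π, ← h, mt_det]
  have hne : ∀ i, x i ≠ 0 := fun i => Finset.prod_ne_zero_iff.1 (by rw [hx]; exact one_ne_zero) i (Finset.mem_univ _)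
  choose d hd using fun i => ww_surj (x i) (hne i)
  obtain rfl : x = fun i => ww (d i) := funext fun i => (hd i).symm
  exact ⟨π, Subgroup.mem_top _, d, ww_facts.2.2.1 _ _ (by rw [← ww_sum, hx, ww_facts.2.2.2.1]), mt_ext h⟩

/-- An element permuting the diagonal elements by conjugation is monomial. -/
theorem mem_MN_of_normalises {g : SU6} (hg : ∀ y ∈ DD, g * y * g⁻¹ ∈ DD) : g ∈ MN := by
  classical
  have e : ∀ y ∈ DD, g⁻¹ * y * g ∈ DD := by
    have hmap : DD.map (MulAut.conj g).toMonoidHom = DD := by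
      refine Subgroup.eq_of_le_of_card_ge ?_ (le_of_eq ?_)
      · rintro _ ⟨y, hy, rfl⟩
        exact hg y hy
      · exact (Subgroup.card_map_of_injective (MulAut.conj g).injective).symm
    intro y hy
    obtain ⟨x, hx, rfl⟩ := hmap.symm ▸ hy
    simpa [mul_assoc] using hx
  have key : ∀ u : SU6, (∀ y ∈ DD, u⁻¹ * y * u ∈ DD) → ∀ j i k, mt u i j ≠ 0 → mt u k j ≠ 0 → i = k := by
    intro u hu j i k hi hk
    by_contra hne
    have hs : ∑ x, (Pi.single i (1 : ZMod 3) - Pi.single k 1 : Fin 6 → ZMod 3) x = 0 := by simp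
    obtain ⟨d, hd, hd'⟩ := mem_DD.1 (hu (mon 1 _ hs) (mem_DD.2 ⟨_, hs, rfl⟩))
    have q : mon 1 _ hs * u = u * mon 1 d hd := by rw [← hd']; group
    have hentry : ∀ x, mt u x j ≠ 0 → ww ((Pi.single i (1 : ZMod 3) - Pi.single k 1 : Fin 6 → ZMod 3) x) = ww (d j) := by
      intro x hx
      have := congrFun (congrFun (congrArg mt q) x) j
      rw [mt_mul, mt_mul, mt_mon, mt_mon, monMat_one, monMat_one, Matrix.diagonal_mul, Matrix.mul_diagonal] at this
      exact mul_right_cancel₀ hx (this.trans (mul_comm _ _))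
    have hq := ww_facts.2.2.1 _ _ ((hentry i hi).trans (hentry k hk).symm)
    simp [Pi.single_apply, hne, Ne.symm hne] at hq
    exact absurd hq (by decide)
  have hcol := key g e
  have hrow : ∀ j, ∃ i, mt g i j ≠ 0 := by
    intro j
    by_contra h
    simp only [not_exists, not_not] at h
    have := congrFun (congrFun (mt_inv_mul g) j) j
    simp [Matrix.mul_apply, h] at this
  choose p hp using hrow
  have hpz : ∀ i j, i ≠ p j → mt g i j = 0 := fun i j hij => by
    by_contra h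
    exact hij (hcol j i (p j) h (hp j))
  have hmat : ∀ j i, mt g i j = if i = p j then mt g (p j) j else 0 := fun j i => by
    split
    · next h => rw [h]
    · next h => exact hpz i j h
  have hinj : Function.Injective p := fun a b hab => by
    have hcol' := key g⁻¹ (fun y hy => by simpa using hg y hy)
    have one : ∀ c, mt g⁻¹ c (p c) * mt g (p c) c = 1 := fun c => by
      have := congrFun (congrFun (mt_inv_mul g) c) c
      rwa [Matrix.mul_apply, Finset.sum_eq_single (p c), Matrix.one_apply_eq] at this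
      · intro k _ hk
        rw [hpz k c hk, mul_zero]
      · simp
    exact hcol' (p a) a b (left_ne_zero_of_mul_eq_one (one a)) (hab ▸ left_ne_zero_of_mul_eq_one (one b))
  exact mem_MN_of_monMat (π := Equiv.ofBijective p (Finite.injective_iff_bijective.1 hinj))
    (x := fun j => mt g (p j) j) (Matrix.ext fun i j => by
      rw [hmat j i]
      simp [monMat])

theorem normalises_of_mem_MN {g : SU6} (hg : g ∈ MN) {y : SU6} (hy : y ∈ DD) : g * y * g⁻¹ ∈ DD := by
  obtain ⟨π, -, d, h, rfl⟩ := hg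
  obtain ⟨e, h', rfl⟩ := mem_DD.1 hy
  exact mem_DD.2 ⟨_, _, mon_conj π d e h h'⟩

end Cfsg.UFourInUSix
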