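import Cfsg.Agent.UFourInUSix.Mono
import Cfsg.Agent.Classical.Unitary.Matrix
import Mathlib.GroupTheory.Perm.Cycle.Type

/-!
# The Sylow three-subgroup, the diagonal subgroup and the centre
-/

set_option autoImplicit false
set_option maxRecDepth 20000
set_option linter.style.haveILetI false
set_option linter.unusedVariables false

open Matrix Equiv

namespace Cfsg.UFourInUSix

open Cfsg.Lib.USixTwoCover (K dec sqr card_K card_psu)

/-- The centre. -/
abbrev Z6 : Subgroup SU6 := Subgroup.center SU6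

theorem sum_const (c : ZMod 3) : ∑ _i : Fin 6, c = 0 := by
  revert c
  decide +kernel

/-- A scalar element. -/
def scal (c : ZMod 3) : SU6 := mon 1 (fun _ => c) (sum_const c)

theorem scal_mem_DD (c : ZMod 3) : scal c ∈ DD := mem_DD.2 ⟨_, _, rfl⟩

theorem scal_center (c : ZMod 3) : scal c ∈ Z6 := Subgroup.mem_center_iff.2 fun g => mt_ext (by
  rw [mt_mul, mt_mul, scal, mt_mon, monMat_one]
  ext i j
  rw [Matrix.mul_diagonal, Matrix.diagonal_mul, mul_comm])

theorem card_Z6 : Nat.card Z6 = 3 := by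
  rw [Cfsg.Lib.Classical.card_center_SU (F := K) (q := 2) (by rw [card_K]; norm_num) (by norm_num)]
  rfl

theorem mem_Z6 {g : SU6} : g ∈ Z6 ↔ ∃ c, g = scal c := by
  refine ⟨fun hg => ?_, fun ⟨c, h⟩ => h ▸ scal_center c⟩
  let f : ZMod 3 → Z6 := fun c => ⟨scal c, scal_center c⟩
  have hinj : Function.Injective f := fun a b e => congrFun (mon_inj (h := sum_const a) (h' := sum_const b) (congrArg Subtype.val e)).2 0
  haveI : Finite Z6 := Nat.finite_of_card_ne_zero (by rw [card_Z6]; norm_num)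
  obtain ⟨c, hc⟩ := ((Nat.bijective_iff_injective_and_card f).2 ⟨hinj, by rw [card_Z6, Nat.card_zmod]⟩).2 ⟨g, hg⟩
  exact ⟨c, (congrArg Subtype.val hc).symm⟩

theorem Z6_le_DD : Z6 ≤ DD := fun g hg => by
  obtain ⟨c, rfl⟩ := mem_Z6.1 hg
  exact scal_mem_DD c

theorem card_SU6 : Nat.card SU6 = 27590492160 := by
  rw [Subgroup.card_eq_card_quotient_mul_card_subgroup Z6, card_Z6]
  have h := card_psu
  change Nat.card (SU6 ⧸ Z6) = _ at h
  rw [h]

instance finite_SU6 : Finite SU6 := Nat.finite_of_card_ne_zero (by rw [card_SU6]; norm_num)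

/-- The group of two disjoint three-cycles. -/
abbrev A9 : Type := Multiplicative (ZMod 3 × ZMod 3)

/-- The two disjoint three-cycles. -/
def cyc : A9 →* Perm (Fin 6) where
  toFun a := (swap 0 1 * swap 1 2) ^ a.toAdd.1.val * (swap 3 4 * swap 4 5) ^ a.toAdd.2.val
  map_one' := by decide +kernel
  map_mul' := by decide +kernel

theorem cyc_inj : Function.Injective cyc := by
  have h : ∀ a b : A9, cyc a = cyc b → a = b := by decide +kernel
  exact fun a b => h a b

/-- The Sylow three-subgroup. -/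
abbrev SS : Subgroup SU6 := MP cyc.range

theorem card_SS : Nat.card SS = 2187 := by
  rw [card_MP, ← Nat.card_congr (MonoidHom.ofInjective cyc_inj).toEquiv]
  simp

theorem DD_le_SS : DD ≤ SS := MP_mono bot_le

theorem SS_le_MN : SS ≤ MN := MP_mono le_top

/-- The permutation of a monomial element. -/
noncomputable def permOf : MN →* Perm (Fin 6) :=
  MonoidHom.mk' (fun g => g.2.choose) fun g k => by
    obtain ⟨-, d, h, hd⟩ := g.2.choose_spec
    obtain ⟨-, e, h', he⟩ := k.2.choose_spec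
    obtain ⟨-, f, h'', hf⟩ := (g * k).2.choose_spec
    exact ((mon_inj (((mon_mul _ _ d e h h').symm.trans (by rw [← hd, ← he]; rfl)).trans hf)).1).symm

theorem permOf_spec (g : MN) : ∃ d h, (g : SU6) = mon (permOf g) d h := g.2.choose_spec.2

/-- Exponent vectors fixed by a permutation modulo scalars. -/
def Fixd (a : A9) (v : Fin 5 → ZMod 3) : Prop := ∃ c : ZMod 3, ∀ i, ext6 v ((cyc a)⁻¹ i) = ext6 v i + c

instance (a : A9) (v : Fin 5 → ZMod 3) : Decidable (Fixd a v) := inferInstanceAs (Decidable (∃ c, ∀ i, _))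

theorem fixd_one : ∀ a : A9, a ≠ 1 → (Finset.univ.filter (Fixd a)).card < 81 := by decide +kernel

theorem fixd_two : ∀ a b : A9, a ≠ 1 → b ≠ 1 → b ≠ a → b ≠ a * a →
    (Finset.univ.filter fun v => Fixd a v ∧ Fixd b v).card < 27 := by decide +kernel

theorem comm_mem_Z6 {π : Perm (Fin 6)} {d e : Fin 6 → ZMod 3} {h : ∑ i, d i = 0} {h' : ∑ i, e i = 0}
    (hc : mon π d h * mon 1 e h' * (mon π d h)⁻¹ * (mon 1 e h')⁻¹ ∈ Z6) :
    ∃ c, ∀ i, e (π⁻¹ i) = e i + c := by
  obtain ⟨c, hc⟩ := mem_Z6.1 hc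
  rw [mon_conj, mon_inv, mon_mul, scal] at hc
  refine ⟨c, fun i => ?_⟩
  have q : e (π⁻¹ i) + -e i = c := by simpa using congrFun (mon_inj hc).2 i
  rw [← q]
  abel

/-- An elementary abelian modulo scalars subgroup of order 243 of the Sylow subgroup is diagonal. -/
theorem eq_DD {X : Subgroup SU6} (hXS : X ≤ SS) (hc : Nat.card X = 243)
    (hcomm : ∀ x ∈ X, ∀ y ∈ X, x * y * x⁻¹ * y⁻¹ ∈ Z6) : X = DD := by
  classical
  have hXN : X ≤ MN := hXS.trans SS_le_MN
  let f : X →* Perm (Fin 6) := permOf.comp (Subgroup.inclusion hXN)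
  have hf : ∀ x : X, f x ∈ cyc.range := fun x => by
    obtain ⟨π, hπ, d, h, e⟩ := hXS x.2
    obtain ⟨d', h', e'⟩ := permOf_spec (Subgroup.inclusion hXN x)
    have : f x = π := (mon_inj (e'.symm.trans e)).1
    rwa [this]
  by_cases htriv : ∀ x : X, f x = 1
  · refine Subgroup.eq_of_le_of_card_ge (fun x hx => mem_DD.2 ?_) (by rw [card_DD, hc])
    obtain ⟨d, h, e⟩ := permOf_spec (Subgroup.inclusion hXN ⟨x, hx⟩)
    exact ⟨d, h, e.trans (mon_ext (htriv ⟨x, hx⟩) rfl)⟩
  exfalso
  let Y : Finset A9 := Finset.univ.filter fun a => ∃ x, f x = cyc a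
  have hY : Nat.card f.range ≤ Y.card := by
    let g : f.range → Y := fun p => ⟨(hf p.2.choose).choose, Finset.mem_filter.2 ⟨Finset.mem_univ _,
      p.2.choose, ((hf p.2.choose).choose_spec).symm⟩⟩
    have hg : Function.Injective g := fun p q e => Subtype.ext (by
      have e' : cyc (hf p.2.choose).choose = cyc (hf q.2.choose).choose := congrArg (fun a : Y => cyc a.1) e
      exact p.2.choose_spec.symm.trans ((hf _).choose_spec.symm.trans (e'.trans ((hf _).choose_spec.trans
        q.2.choose_spec))))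
    simpa [Fintype.card_coe] using Nat.card_le_card_of_injective g hg
  have hprod : Nat.card f.ker * Nat.card f.range = 243 := by
    rw [← hc, Subgroup.card_eq_card_quotient_mul_card_subgroup f.ker,
      Nat.card_congr (QuotientGroup.quotientKerEquivRange f).toEquiv, mul_comm]
  have hfix : ∀ T : Finset (Fin 5 → ZMod 3), (∀ v, (∀ a ∈ Y, Fixd a v) → v ∈ T) → Nat.card f.ker ≤ T.card := by
    intro T hT
    have hker : ∀ x : f.ker, ∃ v : Fin 5 → ZMod 3, (x.1.1 = mon 1 (ext6 v) (sum_ext6 v)) ∧ v ∈ T := fun x => by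
      obtain ⟨e, h', he⟩ := permOf_spec (Subgroup.inclusion hXN x.1)
      have he' : x.1.1 = mon 1 e h' := he.trans (mon_ext x.2 rfl)
      refine ⟨fun i => e i.castSucc, he'.trans (mon_ext rfl (ext6_res h').symm), hT _ fun a ha => ?_⟩
      obtain ⟨y, hy⟩ := (Finset.mem_filter.1 ha).2
      obtain ⟨d, h, hd⟩ := permOf_spec (Subgroup.inclusion hXN y)
      have hd' : y.1 = mon (cyc a) d h := hd.trans (mon_ext hy rfl)
      have := hcomm _ y.2 _ x.1.2
      rw [hd', he'] at this
      obtain ⟨c, hc'⟩ := comm_mem_Z6 this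
      exact ⟨c, fun i => by rw [ext6_res h']; exact hc' i⟩
    choose g hg hgT using hker
    have hinj : Function.Injective fun x => (⟨g x, hgT x⟩ : T) := fun x y e => Subtype.ext (Subtype.ext (by
      rw [hg x, hg y]
      exact mon_ext rfl (congrArg ext6 (congrArg Subtype.val e))))
    simpa [Fintype.card_coe] using Nat.card_le_card_of_injective _ hinj
  simp only [not_forall] at htriv
  obtain ⟨x, hx⟩ := htriv
  obtain ⟨a, ha⟩ := hf x
  have ha1 : a ≠ 1 := fun h => hx (by rw [← ha, h, map_one])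
  have haY : a ∈ Y := Finset.mem_filter.2 ⟨Finset.mem_univ _, x, ha.symm⟩
  have hk1 := hfix (Finset.univ.filter (Fixd a)) fun v hv => Finset.mem_filter.2 ⟨Finset.mem_univ _, hv a haY⟩
  have h81 := fixd_one a ha1
  by_cases hb : ∃ b ∈ Y, b ≠ 1 ∧ b ≠ a ∧ b ≠ a * a
  · obtain ⟨b, hbY, hb1, hb2, hb3⟩ := hb
    have hk := hfix (Finset.univ.filter fun v => Fixd a v ∧ Fixd b v) fun v hv =>
      Finset.mem_filter.2 ⟨Finset.mem_univ _, hv a haY, hv b hbY⟩
    have h27 := fixd_two a b ha1 hb1 hb2 hb3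
    have hle : Y.card ≤ 9 := (Finset.card_le_univ _).trans (by simp)
    have := Nat.mul_le_mul (show Nat.card f.ker ≤ 26 by omega) (hY.trans hle)
    omega
  · have hsub : Y ⊆ {1, a, a * a} := fun b hbY => by
      by_contra hn
      simp only [Finset.mem_insert, Finset.mem_singleton, not_or] at hn
      exact hb ⟨b, hbY, hn⟩
    have hle : Y.card ≤ 3 := (Finset.card_le_card hsub).trans Finset.card_le_three
    have := Nat.mul_le_mul (show Nat.card f.ker ≤ 80 by omega) (hY.trans hle)
    omega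

/-- Exponents constant on the two triples. -/
def two (a b : ZMod 3) : Fin 6 → ZMod 3 := ![a, a, a, b, b, b]

theorem two_sum : ∀ a b : ZMod 3, ∑ i, two a b i = 0 := by decide +kernel

theorem fixd_all : ∀ v, Fixd (Multiplicative.ofAdd (1, 0)) v → Fixd (Multiplicative.ofAdd (0, 1)) v →
    ∃ a b, ext6 v = two a b := by decide +kernel

theorem central_form {y : SU6} (hy : y ∈ DD) (h : ∀ s ∈ SS, s * y * s⁻¹ * y⁻¹ ∈ Z6) :
    ∃ a b, y = mon 1 (two a b) (two_sum a b) := by
  obtain ⟨e, h', rfl⟩ := mem_DD.1 hy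
  have key : ∀ t : A9, Fixd t (fun i => e i.castSucc) := fun t => by
    obtain ⟨c, hc⟩ := comm_mem_Z6 (h _ (mon_mem (P := cyc.range) ⟨t, rfl⟩ 0 (by simp)))
    exact ⟨c, fun i => by rw [ext6_res h']; exact hc i⟩
  obtain ⟨a, b, hab⟩ := fixd_all _ (key _) (key _)
  exact ⟨a, b, mon_ext rfl ((ext6_res h').symm.trans hab)⟩

theorem two_shift : ∀ a b c : ZMod 3, a ≠ b → (∀ j : Fin 6, ∃ i, two a b j = two a b i + c) → c = 0 := by
  decide +kernel

theorem two_block : ∀ a b : ZMod 3, a ≠ b → ∀ i j : Fin 6, two a b j = two a b i → i.val / 3 = j.val / 3 := by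
  decide +kernel

/-- An element centralising an element with two eigenspaces modulo scalars is block diagonal. -/
theorem block_of_comm {g : SU6} {a b : ZMod 3} (hab : a ≠ b)
    (h : g * mon 1 (two a b) (two_sum a b) * g⁻¹ * (mon 1 (two a b) (two_sum a b))⁻¹ ∈ Z6) (i j : Fin 6)
    (hij : i.val / 3 ≠ j.val / 3) : mt g i j = 0 := by
  obtain ⟨c, hc⟩ := mem_Z6.1 h
  have q : g * mon 1 (two a b) (two_sum a b) = scal c * mon 1 (two a b) (two_sum a b) * g := by
    rw [← hc]; group
  have hent : ∀ i j, mt g i j ≠ 0 → two a b j = two a b i + c := fun i j hne => by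
    have e := congrFun (congrFun (congrArg mt q) i) j
    rw [mt_mul, mt_mul, mt_mul, scal, mt_mon, mt_mon, monMat_one, monMat_one, Matrix.mul_diagonal,
      Matrix.diagonal_mul_diagonal, Matrix.diagonal_mul, mul_comm (ww c * _), ← ww_facts.1, add_comm] at e
    exact ww_facts.2.2.1 _ _ (mul_left_cancel₀ hne e)
  have hc0 : c = 0 := two_shift a b c hab fun j => by
    by_contra hn
    simp only [not_exists] at hn
    have hz : ∀ i, mt g i j = 0 := fun i => by
      by_contra hne
      exact hn i (hent i j hne)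
    have := congrFun (congrFun (mt_inv_mul g) j) j
    simp [Matrix.mul_apply, hz] at this
  by_contra hne
  exact hij (two_block a b hab i j (by rw [hent i j hne, hc0, add_zero]))

/-- A generator of the diagonal subgroup. -/
def dgen (i : Fin 5) : SU6 := mon 1 (ext6 (Pi.single i 1)) (sum_ext6 _)

/-- A three-cycle. -/
def tcy (a b c : Fin 6) : SU6 := mon (swap a b * swap b c) 0 (by simp)

/-- The permutation matrices as a homomorphism. -/
def pm : Perm (Fin 6) →* SU6 :=
  MonoidHom.mk' (fun π => mon π 0 (by simp)) fun π σ => by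
    rw [mon_mul]
    exact mon_ext rfl (funext fun i => by simp)

/-- The diagonal elements as a homomorphism. -/
def dgh : Multiplicative (Fin 5 → ZMod 3) →* SU6 :=
  MonoidHom.mk' (fun v => mon 1 (ext6 v.toAdd) (sum_ext6 _)) fun v w => by
    rw [mon_mul]
    refine mon_ext (one_mul 1).symm (funext fun i => ?_)
    refine Fin.lastCases ?_ (fun k => ?_) i
    · simp only [ext6, toAdd_mul, Pi.add_apply, Equiv.Perm.one_apply, Fin.snoc_last, Finset.sum_add_distrib, neg_add]
    · simp [ext6]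

theorem perm_three : ∀ σ : Perm (Fin 6), (Finset.univ.filter fun x => σ x ≠ x).card = 3 →
    ∃ a, a ≠ σ a ∧ σ a ≠ σ (σ a) ∧ a ≠ σ (σ a) ∧ σ = swap a (σ a) * swap (σ a) (σ (σ a)) := by
  decide +kernel

theorem single_sum : ∀ v : Fin 5 → ZMod 3, v = ∑ i, (v i).val • Pi.single i 1 := by decide +kernel

theorem MM_le {W : Subgroup SU6} (hD : ∀ i, dgen i ∈ W)
    (h3 : ∀ a b c : Fin 6, a ≠ b → b ≠ c → a ≠ c → tcy a b c ∈ W) : MM ≤ W := by
  have hA : alternatingGroup (Fin 6) ≤ W.comap pm := by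
    rw [← Equiv.Perm.closure_three_cycles_eq_alternating, Subgroup.closure_le]
    intro σ hσ
    have hc : (Finset.univ.filter fun x => σ x ≠ x).card = 3 := by
      rw [show (Finset.univ.filter fun x => σ x ≠ x) = σ.support from Finset.ext fun x => by simp]
      exact hσ.card_support
    obtain ⟨a, h1, h2, h3', he⟩ := perm_three σ hc
    rw [he]
    exact h3 _ _ _ h1 h2 h3'
  have hv : ∀ v : Fin 5 → ZMod 3, Multiplicative.ofAdd v ∈ W.comap dgh := fun v => by
    rw [single_sum v, ofAdd_sum]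
    refine Subgroup.prod_mem _ fun i _ => ?_
    rw [ofAdd_nsmul]
    exact pow_mem (show Multiplicative.ofAdd (Pi.single i (1 : ZMod 3) : Fin 5 → ZMod 3) ∈ W.comap dgh from hD i) _
  rintro _ ⟨π, hπ, d, h, rfl⟩
  have e : mon π d h = pm π * dgh (Multiplicative.ofAdd fun i => d i.castSucc) := by
    show _ = mon π 0 (by simp) * mon 1 _ (sum_ext6 _)
    rw [mon_mul]
    exact mon_ext (mul_one π).symm (funext fun i => by simp [ext6_res h])
  rw [e]
  exact mul_mem (hA hπ) (hv _)

theorem dgen_four (i : Fin 5) : dgen i = dgen i * dgen i * (dgen i * dgen i) := by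
  rw [dgen, mon_mul, mon_mul]
  refine mon_ext (by simp) (funext fun j => ?_)
  simp only [Equiv.Perm.one_apply, one_mul]
  exact (by decide +kernel : ∀ x : ZMod 3, x = x + x + (x + x)) _

theorem tcy_four (a b c : Fin 6) (h1 : a ≠ b) (h2 : b ≠ c) (h3 : a ≠ c) :
    tcy a b c = tcy a b c * tcy a b c * (tcy a b c * tcy a b c) := by
  have key : ∀ a b c : Fin 6, a ≠ b → b ≠ c → a ≠ c → swap a b * swap b c =
      swap a b * swap b c * (swap a b * swap b c) * (swap a b * swap b c * (swap a b * swap b c)) := by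
    decide +kernel
  rw [tcy, mon_mul, mon_mul]
  exact mon_ext (key a b c h1 h2 h3) (funext fun i => by simp)

/-- The only subgroup of index two of the monomial group is the even part. -/
theorem eq_MM {W : Subgroup SU6} (hW : W ≤ MN) (hc : Nat.card W = 87480) : W = MM := by
  have hidx : (W.subgroupOf MN).index = 2 := by
    have h := Subgroup.card_mul_index (W.subgroupOf MN)
    rw [Nat.card_congr (Subgroup.subgroupOfEquivOfLe hW).toEquiv, hc, card_MN] at h
    omega
  have hsq : ∀ g ∈ MN, g * g ∈ W := fun g hg =>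
    Subgroup.mul_self_mem_of_index_two hidx (⟨g, hg⟩ : MN)
  have h4 : ∀ g ∈ MN, g * g * (g * g) ∈ W := fun g hg => mul_mem (hsq g hg) (hsq g hg)
  refine (Subgroup.eq_of_le_of_card_ge (MM_le (fun i => ?_) fun a b c h1 h2 h3 => ?_) (by rw [hc, card_MM])).symm
  · rw [dgen_four]
    exact h4 _ (mon_mem (Subgroup.mem_top _) _ _)
  · rw [tcy_four a b c h1 h2 h3]
    exact h4 _ (mon_mem (Subgroup.mem_top _) _ _)

end Cfsg.UFourInUSix
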